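import Cfsg.Agent.Omega.KL.TwoS.Inp
import Cfsg.Agent.Omega.KL.Star.Fam

/-!
# The group plug of THEOREM KL* in the family form (helper127 #23829; bb #24011)

Every consumer of KL* has subgroups of `G` instead of an action.  `C` acts on the elementary abelian `M` by conjugation,
`T` is a Sylow 2-subgroup of `C`, `N = ⟨Z ^ C⟩` with `Z` centralised by `T`, `YY` is a family of `T`-invariant subgroups
of `M`; `A ≤ T` is exact modulo `C_A(N)`.

* `PreF` : the input for an action which need not be faithful, with an `A` which is exact modulo the kernel;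
  **`PreF.inpF`** : `PreF → InpF` for `C / C_C(M)` and an atom inside the image of `A`;
* `GIn` : the input on the level of subgroups; **`GIn.preF`**, **`GIn.inpF`**.
-/

set_option autoImplicit false
set_option linter.unusedSectionVars false

namespace Cfsg.Agent.Omega.KL.Star.Grp

open Subgroup Cfsg Cfsg.Agent.Omega.MinPar
open Cfsg.Agent.ZN (o2 zc)
open Cfsg.Agent.ClassTwoFusion.Quad Cfsg.Agent.Omega.ML.MinFrame
open Cfsg.Agent.MinSimple.MinParabolic (IsMinPar)
open Cfsg.Agent.Omega.NoFF.Basic (conj_conj mem_conj conj_le_iff comm_symm comm_mono Z_le_V V_le)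
open Cfsg.Agent.Omega.OM.KTwo (le_normalizer_V le_V)
open Cfsg.Agent.MinSimple.VModule (le_o2 o2_isPGroup o2_le le_normalizer_o2 o2_le_of_sylow)
open Cfsg.Agent.Omega.TC.LemZ (le_norm_of)
open Cfsg.Agent.Omega.KL.Quo (norm_lift exists_minPar)
open Cfsg.Agent.Omega.KL.TwoS (exists_odd relIndex_anti relIndex_mono actX)
open Cfsg.Agent.Omega.KL.Star.Fam (InpF)
open scoped Pointwise

universe u v

/-- the input for `C` acting on `M`, not necessarily faithfully, with an `A` which is exact modulo the kernel;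
`Z ≤ U ≤ M`, `U` is the submodule generated by `Z`, `T` fixes `Z` -/
structure PreF {C : Type u} [Group C] {M : Type v} [Group M] [MulDistribMulAction C M] (T A : Subgroup C)
    (Z U : Subgroup M) (YY : Set (Subgroup M)) : Prop where
  sq : ∀ m : M, m * m = 1
  two : IsPGroup 2 T
  syl : ¬ 2 ∣ T.index
  TZ : ∀ t ∈ T, ∀ z ∈ Z, t • z = z
  gen : ∀ W : Subgroup M, Z ≤ W → (∀ c : C, ∀ w ∈ W, c • w ∈ W) → U ≤ W
  el : ∀ a ∈ A, a * a = 1
  mv : ¬ A ≤ fxr C U
  ker : A ⊓ fxr C U ≤ fxr C (⊤ : Subgroup M)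
  le : (cv M (A : Set C)).index ≤ (fxr C U).relIndex A
  no : ∀ B : Subgroup C, B ≤ A → (fxr C U).relIndex B ≤ (cv M (B : Set C)).relIndex U
  TY : ∀ Y ∈ YY, ∀ t ∈ T, ∀ w ∈ Y, t • w ∈ Y
  low : ∀ Y ∈ YY, A ≤ o2 (fxr C Y ⊔ T)
  z0 : ∃ Y ∈ YY, ∀ w ∈ Y, ∀ t ∈ T, t • w = w
  uni : ∀ P : Subgroup C, IsMinPar T P → ∃ Y ∈ YY, ∀ g ∈ P, Odd (orderOf g) → ∀ w ∈ Y, g • w = w
  KC : IsKGroup C

theorem PreF.inpF {C : Type u} [Group C] [Finite C] {M : Type v} [Group M] [Finite M] [MulDistribMulAction C M]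
    {T A : Subgroup C} {Z U : Subgroup M} {YY : Set (Subgroup M)} (h : PreF T A Z U YY) :
    ∃ (X : Type u) (_ : Group X) (_ : Finite X) (_ : MulDistribMulAction X M) (T' A' : Subgroup X),
      InpF T' A' YY := by
  have htriv : ∀ k ∈ fxr C (⊤ : Subgroup M), ∀ m : M, k • m = m := fun k hk m => hk m (mem_top m)
  have hN : (fxr C (⊤ : Subgroup M)).Normal := fxr_normal fun _ _ _ => mem_top _
  set N := fxr C (⊤ : Subgroup M) with hNdef
  let _ : MulDistribMulAction (C ⧸ N) M := quoAct N htriv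
  let π : C →* C ⧸ N := QuotientGroup.mk' N
  have hπ : Function.Surjective π := QuotientGroup.mk'_surjective N
  have he : ∀ (g : C) (v : M), π g • v = g • v := fun _ _ => rfl
  have hker : ∀ k : C, (∀ v : M, k • v = v) → π k = 1 := fun k hk =>
    (QuotientGroup.eq_one_iff k).2 fun v _ => hk v
  have hker2 : ∀ k : C, π k = 1 → ∀ v : M, k • v = v := fun k hk v =>
    (QuotientGroup.eq_one_iff k).1 hk v (mem_top v)
  have hfxm : ∀ Y : Subgroup M, (fxr C Y).map π = fxr (C ⧸ N) Y := by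
    intro Y
    ext g
    constructor
    · rintro ⟨c, hc, rfl⟩
      exact hc
    · intro hg
      obtain ⟨c, rfl⟩ := hπ g
      exact ⟨c, hg, rfl⟩
  have ho2 : ∀ S : Subgroup C, A ≤ o2 S → A.map π ≤ o2 (S.map π) := by
    intro S hS
    refine (map_mono hS).trans (le_o2 (map_mono (o2_le _)) ((o2_isPGroup _).map π) ?_)
    exact (map_mono (le_normalizer_o2 _)).trans (le_normalizer_map π)
  have hlow : ∀ Y ∈ YY, A.map π ≤ o2 (fxr (C ⧸ N) Y ⊔ T.map π) := by
    intro Y hY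
    rw [← hfxm, ← Subgroup.map_sup]
    exact ho2 _ (h.low Y hY)
  have hsyl : ¬ 2 ∣ (T.map π).index := fun h2 => h.syl (h2.trans (index_map_dvd T hπ))
  have hKH : IsKGroup (C ⧸ N) := ML.Final.sec_KG.quo C h.KC N
  have hel : ∀ a ∈ A.map π, a * a = 1 := by
    rintro _ ⟨a, ha, rfl⟩
    rw [← map_mul, h.el a ha, map_one]
  -- `A.map π` is faithful on `U`
  have hfx : ∀ B : Subgroup (C ⧸ N), B ≤ A.map π → B ⊓ fxr (C ⧸ N) U = ⊥ := by
    intro B hB
    rw [Subgroup.eq_bot_iff_forall]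
    rintro g ⟨hg, hg2⟩
    obtain ⟨a, ha, rfl⟩ := hB hg
    have h1 : a ∈ fxr C (⊤ : Subgroup M) := h.ker ⟨ha, hg2⟩
    exact hker a fun m => h1 m (mem_top m)
  -- the fixed points of a subgroup and of its preimage in `A`
  have hcvm : ∀ B : Subgroup C, cv M (B.map π : Set (C ⧸ N)) = cv M (B : Set C) := by
    intro B
    ext v
    constructor
    · exact fun hv a ha => hv _ ⟨a, ha, rfl⟩
    · rintro hv _ ⟨a, ha, rfl⟩
      exact hv a ha
  have hcardm : ∀ B : Subgroup C, Nat.card (B.map π) = N.relIndex B := by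
    intro B
    rw [← relIndex_bot_left, ← relIndex_comap, MonoidHom.comap_bot, QuotientGroup.ker_mk']
  have hNU : N ≤ fxr C U := fun g hg m _ => hg m (mem_top m)
  have hrelm : ∀ B : Subgroup C, B ≤ A → N.relIndex B = (fxr C U).relIndex B := by
    intro B hB
    have e : B ⊓ fxr C U = B ⊓ N := by
      apply le_antisymm
      · exact le_inf inf_le_left ((inf_le_inf_right _ hB).trans h.ker)
      · exact inf_le_inf_left _ hNU
    rw [← inf_relIndex_left B N, ← e, inf_relIndex_left]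
  -- (NO)
  have hno : ∀ B : Subgroup (C ⧸ N), B ≤ A.map π → Nat.card B ≤ (cv M (B : Set (C ⧸ N))).index := by
    intro B hB
    set B0 : Subgroup C := B.comap π ⊓ A with hB0
    have hBm : B0.map π = B := by
      apply le_antisymm
      · rintro _ ⟨b, hb, rfl⟩
        exact hb.1
      · intro b hb
        obtain ⟨a, ha, rfl⟩ := hB hb
        exact ⟨a, ⟨hb, ha⟩, rfl⟩
    rw [← hBm, hcardm, hcvm, hrelm B0 inf_le_right]
    refine (h.no B0 inf_le_right).trans ?_
    rw [← relIndex_top_right (cv M (B0 : Set C))]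
    exact relIndex_mono le_top
  have hex : (cv M (A.map π : Set (C ⧸ N))).index = Nat.card (A.map π) := by
    refine le_antisymm ?_ (hno _ le_rfl)
    rw [hcvm, hcardm, hrelm A le_rfl]
    exact h.le
  have hA1 : A.map π ≠ ⊥ := by
    intro h1
    apply h.mv
    intro a ha m _
    refine hker2 a ?_ m
    rw [← mem_bot, ← h1]
    exact ⟨a, ha, rfl⟩
  -- an atom
  obtain ⟨B, ⟨hBA, hB1, hBe⟩, hmin⟩ : ∃ B : Subgroup (C ⧸ N), (B ≤ A.map π ∧ B ≠ ⊥ ∧
      (cv M (B : Set (C ⧸ N))).index = Nat.card B) ∧ ∀ B' : Subgroup (C ⧸ N), (B' ≤ A.map π ∧ B' ≠ ⊥ ∧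
      (cv M (B' : Set (C ⧸ N))).index = Nat.card B') → B' ≤ B → B' = B := by
    obtain ⟨B, hB⟩ := (Set.toFinite {B : Subgroup (C ⧸ N) | B ≤ A.map π ∧ B ≠ ⊥ ∧
      (cv M (B : Set (C ⧸ N))).index = Nat.card B}).exists_minimal ⟨A.map π, le_rfl, hA1, hex⟩
    exact ⟨B, hB.prop, fun B' hB' hle => le_antisymm hle (hB.le_of_le hB' hle)⟩
  refine ⟨C ⧸ N, inferInstance, inferInstance, inferInstance, T.map π, B, ?_⟩
  refine ⟨h.sq, h.two.map π, hsyl, fun a ha => hel a (hBA ha), hBe, ?_, ?_, ?_, ?_, ?_, ?_, hKH⟩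
  · intro B' hB' hB1' hne
    refine lt_of_le_of_ne (hno B' (hB'.trans hBA)) fun h1 => hne ?_
    exact hmin B' ⟨hB'.trans hBA, hB1', h1.symm⟩ hB'
  · -- `B ≰ O₂(X)`
    intro hle
    apply hB1
    rw [← hfx B hBA, eq_comm, inf_eq_left]
    have hoT : o2 (⊤ : Subgroup (C ⧸ N)) ≤ T.map π :=
      o2_le_of_sylow (h.two.map π) (by rw [relIndex_top_right]; exact hsyl)
    have h1 : U ≤ cv M (o2 (⊤ : Subgroup (C ⧸ N)) : Set (C ⧸ N)) := by
      refine h.gen _ ?_ ?_
      · intro z hz g hg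
        obtain ⟨t, ht, rfl⟩ := hoT hg
        exact h.TZ t ht z hz
      · intro c w hw g hg
        have h2 : (π c)⁻¹ * g * (π c)⁻¹⁻¹ ∈ o2 (⊤ : Subgroup (C ⧸ N)) :=
          (mem_normalizer_iff.1 (le_normalizer_o2 (⊤ : Subgroup (C ⧸ N)) (mem_top (π c)⁻¹)) g).1 hg
        have h3 := hw _ h2
        rw [inv_inv] at h3
        rw [← he c w, ← mul_smul]
        have e : g * π c = π c * ((π c)⁻¹ * g * π c) := by group
        rw [e, mul_smul, h3]
    exact fun b hb m hm => h1 hm b (hle hb)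
  · rintro Y hY _ ⟨t, ht, rfl⟩ w hw
    exact h.TY Y hY t ht w hw
  · exact fun Y hY => hBA.trans (hlow Y hY)
  · obtain ⟨Y, hY, h1⟩ := h.z0
    refine ⟨Y, hY, ?_⟩
    rintro w hw _ ⟨t, ht, rfl⟩
    exact h1 w hw t ht
  · intro P hP
    obtain ⟨R, hR, rfl⟩ := exists_minPar π hπ hP
    obtain ⟨Y, hY, h1⟩ := h.uni R hR
    refine ⟨Y, hY, fun g hg hog w hw => ?_⟩
    obtain ⟨c, hc, hco, rfl⟩ := exists_odd π hg hog
    exact h1 c hc hco w hw

/-! ### Subgroups -/

/-- the input on the level of subgroups of `G` -/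
structure GIn {G : Type u} [Group G] (C T A M Z : Subgroup G) (YY : Set (Subgroup G)) : Prop where
  CM : C ≤ normalizer (M : Set G)
  sqM : ∀ m ∈ M, m ^ 2 = 1
  TC : T ≤ C
  two : IsPGroup 2 T
  syl : ¬ 2 ∣ T.relIndex C
  ZM : Z ≤ M
  TZ : T ≤ centralizer (Z : Set G)
  YM : ∀ Y ∈ YY, Y ≤ M
  TY : ∀ Y ∈ YY, T ≤ normalizer (Y : Set G)
  z0 : ∃ Y ∈ YY, T ≤ centralizer (Y : Set G)
  low : ∀ Y ∈ YY, A ≤ o2 (C ⊓ centralizer (Y : Set G) ⊔ T)
  uni : ∀ P : Subgroup G, IsMinPar T P → P ≤ C → ∃ Y ∈ YY, ∀ g ∈ P, Odd (orderOf g) → g ∈ centralizer (Y : Set G)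
  AT : A ≤ T
  sqA : ∀ a ∈ A, a ^ 2 = 1
  mv : ¬ A ≤ centralizer (NoFF.Basic.V Z C : Set G)
  ker : A ⊓ centralizer (NoFF.Basic.V Z C : Set G) ≤ centralizer (M : Set G)
  le : (centralizer (A : Set G)).relIndex M ≤ (centralizer (NoFF.Basic.V Z C : Set G)).relIndex A
  no : ∀ B : Subgroup G, B ≤ A → (centralizer (NoFF.Basic.V Z C : Set G)).relIndex B ≤
    (centralizer (B : Set G)).relIndex (NoFF.Basic.V Z C)
  K : IsKGroup C

namespace GIn

variable {G : Type u} [Group G] {C T A M Z : Subgroup G} {YY : Set (Subgroup G)}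

theorem preF [Finite G] (h : GIn C T A M Z YY) :
    letI := actX h.CM
    PreF (T.subgroupOf C) (A.subgroupOf C) (Z.subgroupOf M) ((NoFF.Basic.V Z C).subgroupOf M)
      ((fun Y : Subgroup G => Y.subgroupOf M) '' YY) := by
  let := actX h.CM
  change PreF (T.subgroupOf C) (A.subgroupOf C) (Z.subgroupOf M) ((NoFF.Basic.V Z C).subgroupOf M)
      ((fun Y : Subgroup G => Y.subgroupOf M) '' YY)
  have hAC : A ≤ C := h.AT.trans h.TC
  have hNM : NoFF.Basic.V Z C ≤ M := V_le fun c hc => by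
    have e : MulAut.conj c • M = M := NOThreeL.Pair.conj_eq_of_mem (h.CM hc)
    rw [← e]
    exact conj_le_iff.2 h.ZM
  have hsm : ∀ (c : C) (m : M), ((c • m : M) : G) = c * m * (c : G)⁻¹ := fun _ _ => rfl
  have hfix : ∀ (c : C) (m : M), c • m = m ↔ (m : G) * c = c * m := by
    intro c m
    rw [Subtype.ext_iff, hsm, mul_inv_eq_iff_eq_mul, eq_comm]
  have hfxr : ∀ Y : Subgroup G, Y ≤ M → fxr C (Y.subgroupOf M) = (centralizer (Y : Set G)).subgroupOf C := by
    intro Y hY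
    ext c
    rw [mem_subgroupOf, mem_centralizer_iff]
    constructor
    · intro h y hy
      exact (hfix c ⟨y, hY hy⟩).1 (h _ (mem_subgroupOf.2 hy))
    · intro h y hy
      exact (hfix c y).2 (h _ (mem_subgroupOf.1 hy))
  have hfxt : fxr C (⊤ : Subgroup M) = (centralizer (M : Set G)).subgroupOf C := by
    rw [← hfxr M le_rfl, subgroupOf_self]
  have hcv : ∀ B : Subgroup G, B ≤ C → cv M (B.subgroupOf C : Set C) = (centralizer (B : Set G)).subgroupOf M := by
    intro B hB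
    ext m
    rw [mem_subgroupOf, mem_centralizer_iff]
    constructor
    · intro h b hb
      exact ((hfix ⟨b, hB hb⟩ m).1 (h _ (mem_subgroupOf.2 hb))).symm
    · intro h b hb
      exact (hfix b m).2 (h b (mem_subgroupOf.1 hb)).symm
  refine ⟨?_, ?_, h.syl, ?_, ?_, ?_, ?_, ?_, ?_, ?_, ?_, ?_, ?_, ?_, h.K⟩
  · intro m
    apply Subtype.ext
    have h1 := h.sqM m m.2
    rw [pow_two] at h1
    exact h1
  · exact h.two.comap_of_injective C.subtype C.subtype_injective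
  · intro t ht z hz
    rw [hfix]
    exact mem_centralizer_iff.1 (h.TZ (mem_subgroupOf.1 ht)) z (mem_subgroupOf.1 hz)
  · -- generation
    intro W hZW hW
    have h1 : NoFF.Basic.V Z C ≤ W.map M.subtype := by
      refine V_le fun c hc => ?_
      intro x hx
      rw [mem_conj] at hx
      have h2 := hW ⟨c, hc⟩ ⟨_, h.ZM hx⟩ (hZW (mem_subgroupOf.2 hx))
      refine ⟨_, h2, ?_⟩
      change c * (c⁻¹ * x * c) * c⁻¹ = x
      group
    intro m hm
    obtain ⟨w, hw, hwm⟩ := h1 (mem_subgroupOf.1 hm)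
    rw [← (Subtype.ext hwm : w = m)]
    exact hw
  · intro a ha
    apply Subtype.ext
    have h1 := h.sqA a (mem_subgroupOf.1 ha)
    rw [pow_two] at h1
    exact h1
  · rw [hfxr _ hNM]
    intro h1
    apply h.mv
    intro b hb
    exact mem_subgroupOf.1 (h1 (mem_subgroupOf.2 hb : (⟨b, hAC hb⟩ : C) ∈ A.subgroupOf C))
  · rw [hfxr _ hNM, hfxt]
    rintro c ⟨h1, h2⟩
    exact mem_subgroupOf.2 (h.ker ⟨mem_subgroupOf.1 h1, mem_subgroupOf.1 h2⟩)
  · rw [hfxr _ hNM, hcv A hAC, relIndex_subgroupOf hAC]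
    exact h.le
  · intro B hB
    set B' : Subgroup G := B.map C.subtype with hB'
    have hBB : B'.subgroupOf C = B := comap_map_eq_self_of_injective C.subtype_injective B
    have hB'A : B' ≤ A := by
      rintro _ ⟨b, hb, rfl⟩
      exact mem_subgroupOf.1 (hB hb)
    have h1 := h.no B' hB'A
    rw [hfxr _ hNM, ← hBB, hcv B' (hB'A.trans hAC), relIndex_subgroupOf (hB'A.trans hAC), relIndex_subgroupOf hNM]
    exact h1
  · rintro _ ⟨Y, hY, rfl⟩ t ht w hw
    refine mem_subgroupOf.2 ?_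
    rw [hsm]
    exact (mem_normalizer_iff.1 (h.TY Y hY (mem_subgroupOf.1 ht)) _).1 (mem_subgroupOf.1 hw)
  · rintro _ ⟨Y, hY, rfl⟩
    refine Plug.sub_o2 (S := C ⊓ centralizer (Y : Set G) ⊔ T) (fun c => ?_) (h.low Y hY)
    have e : (C ⊓ centralizer (Y : Set G)).subgroupOf C = (centralizer (Y : Set G)).subgroupOf C := by
      rw [inf_subgroupOf_left]
    rw [hfxr Y (h.YM Y hY), ← e, ← subgroupOf_sup inf_le_left h.TC, mem_subgroupOf]
  · obtain ⟨Y, hY, h1⟩ := h.z0
    refine ⟨_, ⟨Y, hY, rfl⟩, fun w hw t ht => ?_⟩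
    rw [hfix]
    exact mem_centralizer_iff.1 (h1 (mem_subgroupOf.1 ht)) w (mem_subgroupOf.1 hw)
  · intro P hP
    have hR := Plug.minPar_map h.TC hP
    obtain ⟨Y, hY, h1⟩ := h.uni _ hR (map_subtype_le P)
    refine ⟨_, ⟨Y, hY, rfl⟩, fun g hg hog w hw => ?_⟩
    rw [hfix]
    exact mem_centralizer_iff.1 (h1 g (mem_map_of_mem C.subtype hg) (by rwa [orderOf_coe])) w (mem_subgroupOf.1 hw)

theorem inpF [Finite G] (h : GIn C T A M Z YY) :
    ∃ (X N : Type u) (_ : Group X) (_ : Finite X) (_ : Group N) (_ : Finite N) (_ : MulDistribMulAction X N)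
      (T' A' : Subgroup X) (YY' : Set (Subgroup N)), InpF T' A' YY' := by
  let := actX h.CM
  obtain ⟨X, _, _, _, T', A', h1⟩ := h.preF.inpF
  exact ⟨X, M, inferInstance, inferInstance, inferInstance, inferInstance, inferInstance, T', A', _, h1⟩

open Cfsg.Agent.Omega.NO3S.EMany.Low in
/-- **THEOREM KL* on the level of subgroups** -/
theorem exists_sysW [Finite G] (hML : ML.Final.MLK.{u, u}) (h : GIn C T A M Z YY) :
    ∃ (H' : Type u) (_ : Group H') (_ : Finite H') (N : Type u) (_ : Group N) (_ : Finite N)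
      (_ : MulDistribMulAction H' N) (T' A' : Subgroup H') (x' y' : N), SysW T' A' x' y' := by
  obtain ⟨X, N, _, _, _, _, _, T', A', YY', h1⟩ := h.inpF
  exact h1.exists_sysW hML

end GIn

end Cfsg.Agent.Omega.KL.Star.Grp
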