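import Cfsg.Agent.Omega.NO3S.EMany.LowOut

/-!
# THEOREM KL* (helper23, bb #22505 (I)), the core: the second vector out of a `T`-invariant subgroup

`h : LB H M T A`, `x` a `T`-fixed vector moved by `H`, `Y ≤ M` invariant under `T`, `H ≠ C_H(Y) T`.

* `oddGen_sup` : `P = O²(P) T`;
* `exists_shift` : an `H`-translate `x₁ = x₀ x⁻¹ ∈ U¹` of `x`;
* `exists_vec` : `u ∈ (Y W) ∩ U¹`, not centralised by `⟨A^H⟩`, `W` the vectors fixed by `⟨A^H⟩` modulo `U₀`;
* **`core`** : the section `N = U¹ / U₀` with `LB H N T A'` and two `T`-fixed vectors `x'`, `u'`, moved by `H`; the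
  stabilisers of `x'` and `x` agree over `T`; an element of odd order which centralises `Y` fixes `u'`.
-/

set_option autoImplicit false

namespace Cfsg.Agent.Omega.KL.Star.Core

open Subgroup Cfsg Cfsg.Agent.ZN Cfsg.Agent.ClassTwoFusion.Quad
open Cfsg.Agent.Omega.ML.MinFrame hiding comm_of_sq
open Cfsg.Agent.Omega.ML.Final Cfsg.Agent.Omega.NO3S.EMany.Low
open Cfsg.Agent.MinSimple.VModule (o2_isPGroup o2_le le_o2 le_normalizer_o2 o2_le_of_sylow oddGen oddGen_le mem_oddGen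
  oddGen_def le_normalizer_oddGen)
open Cfsg.Agent.MinSimple.MinParabolic (IsMinPar)

universe u v

section grp

variable {G : Type*} [Group G]

/-- `P = O²(P) S`, `S` a Sylow 2-subgroup of `P` -/
theorem oddGen_sup [Finite G] {P S : Subgroup G} (hSP : S ≤ P) (hS : ¬ 2 ∣ S.relIndex P) : oddGen P ⊔ S = P := by
  have : Fact (Nat.Prime 2) := ⟨Nat.prime_two⟩
  apply le_antisymm (sup_le (oddGen_le P) hSP)
  have hN : ((oddGen P).subgroupOf P).Normal := normal_subgroupOf_of_le_normalizer (le_normalizer_oddGen P)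
  have h1 : IsPGroup 2 (P ⧸ (oddGen P).subgroupOf P) := by
    intro q
    obtain ⟨x, rfl⟩ := QuotientGroup.mk_surjective q
    obtain ⟨a, m, hm, ha⟩ := Nat.exists_eq_pow_mul_and_not_dvd (orderOf_pos (x : G)).ne' 2 (by norm_num)
    refine ⟨a, ?_⟩
    rw [← QuotientGroup.mk_pow, QuotientGroup.eq_one_iff, mem_subgroupOf]
    refine mem_oddGen (P.pow_mem x.2 _) ?_
    have hm0 : 0 < m := Nat.pos_of_ne_zero (by rintro rfl; simp at hm)
    have h2 : orderOf ((x : G) ^ 2 ^ a) = m := by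
      rw [orderOf_pow_of_dvd (by positivity) (ha ▸ Dvd.intro _ rfl), ha, Nat.mul_div_cancel_left _ (by positivity)]
    rw [coe_pow, h2]
    exact Nat.not_even_iff_odd.1 fun h => hm h.two_dvd
  obtain ⟨k, hk⟩ := IsPGroup.iff_card.1 h1
  have h2 : (oddGen P ⊔ S).relIndex P ∣ 2 ^ k := by
    have h3 : (oddGen P ⊔ S).relIndex P ∣ (oddGen P).relIndex P := relIndex_dvd_of_le_left _ le_sup_left
    have h4 : (oddGen P).relIndex P = 2 ^ k := by
      rw [← hk, relIndex, index_eq_card]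
    rwa [h4] at h3
  obtain ⟨j, -, hj⟩ := (Nat.dvd_prime_pow Nat.prime_two).1 h2
  have h5 : (oddGen P ⊔ S).relIndex P ∣ S.relIndex P := relIndex_dvd_of_le_left _ le_sup_right
  rw [hj] at h5
  have h6 : j = 0 := by
    by_contra hj0
    exact hS ((dvd_pow_self 2 hj0).trans h5)
  rw [h6, pow_zero] at hj
  exact relIndex_eq_one.1 hj

/-- an element of odd order lies in a normal subgroup `K` with `K T = G`, `T` a 2-group -/
theorem mem_of_odd {K T : Subgroup G} [hK : K.Normal] (hT : IsPGroup 2 T) (hKT : K ⊔ T = ⊤) {g : G}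
    (hg : Odd (orderOf g)) : g ∈ K := by
  have h1 : g ∈ K ⊔ T := hKT ▸ mem_top g
  obtain ⟨k, hk, t, ht, rfl⟩ := mem_sup_of_normal_left.1 h1
  obtain ⟨n, hn⟩ := hT ⟨t, ht⟩
  have hn' : t ^ 2 ^ n = 1 := congrArg Subtype.val hn
  set g := k * t with hgdef
  -- `g ^ 2 ^ n ∈ K`
  have h2 : (QuotientGroup.mk g : G ⧸ K) ^ 2 ^ n = 1 := by
    have h3 : (QuotientGroup.mk g : G ⧸ K) = QuotientGroup.mk t := by
      rw [hgdef, QuotientGroup.mk_mul, (QuotientGroup.eq_one_iff k).2 hk, one_mul]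
    rw [h3, ← QuotientGroup.mk_pow, hn', QuotientGroup.mk_one]
  have h3 : orderOf (QuotientGroup.mk g : G ⧸ K) ∣ 2 ^ n := orderOf_dvd_of_pow_eq_one h2
  have h4 : orderOf (QuotientGroup.mk g : G ⧸ K) ∣ orderOf g := orderOf_map_dvd (QuotientGroup.mk' K) g
  have h5 : (2 ^ n).Coprime (orderOf g) := Nat.Coprime.pow_left n (Nat.coprime_two_left.mpr hg)
  have h6 : orderOf (QuotientGroup.mk g : G ⧸ K) = 1 := Nat.eq_one_of_dvd_coprimes h5 h3 h4
  exact (QuotientGroup.eq_one_iff g).1 (orderOf_eq_one_iff.1 h6)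

/-- a 2-group acting on a 2-group `≠ 1` fixes a vector `≠ 1` -/
theorem exists_fix {M : Type*} [Group M] [Finite M] [MulDistribMulAction G M] [Finite G] (sq : ∀ m : M, m * m = 1)
    {T : Subgroup G} (hT : IsPGroup 2 T) {W : Subgroup M} (hW : ∀ t ∈ T, ∀ w ∈ W, t • w ∈ W) (hne : W ≠ ⊥) :
    ∃ w ∈ W, w ≠ 1 ∧ ∀ t ∈ T, t • w = w := by
  classical
  have : Fact (Nat.Prime 2) := ⟨Nat.prime_two⟩
  let _ : MulAction T W := 
    { smul := fun t w => ⟨(t : G) • (w : M), hW t t.2 w w.2⟩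
      one_smul := fun w => Subtype.ext (one_smul G (w : M))
      mul_smul := fun s t w => Subtype.ext (mul_smul (s : G) (t : G) (w : M)) }
  have hW2 : IsPGroup 2 W := fun w => ⟨1, Subtype.ext (by rw [pow_one, pow_two]; exact sq w)⟩
  have h1 : 2 ∣ Nat.card W := by
    obtain ⟨k, hk⟩ := IsPGroup.iff_card.1 hW2
    rw [hk]
    refine dvd_pow_self 2 ?_
    rintro rfl
    rw [pow_zero] at hk
    exact hne (Subgroup.eq_bot_of_card_eq _ hk)
  have h2 : (1 : W) ∈ MulAction.fixedPoints T W := fun t => Subtype.ext (smul_one (t : G))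
  obtain ⟨w, hw, hw1⟩ := hT.exists_fixed_point_of_prime_dvd_card_of_fixed_point W h1 h2
  exact ⟨w, w.2, fun h => hw1 (Subtype.ext h.symm), fun t ht => congrArg Subtype.val (hw ⟨t, ht⟩)⟩

end grp

section core

variable {H : Type u} [Group H] [Finite H] {M : Type v} [Group M] [Finite M] [MulDistribMulAction H M]
  {T A : Subgroup H}

omit [Finite H] [Finite M] in
/-- an element of odd order which fixes `y` modulo a vector it fixes -/
theorem fix_of_odd (sq : ∀ m : M, m * m = 1) {g : H} (hg : Odd (orderOf g)) {y : M}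
    (hc : g • ((g • y) * y⁻¹) = (g • y) * y⁻¹) : g • y = y := by
  have hcomm := comm_of_sq sq
  have h1 : g • y = (g • y) * y⁻¹ * y := by group
  generalize (g • y) * y⁻¹ = c at hc h1
  have h2 : ∀ n : ℕ, g ^ n • y = c ^ n * y := by
    intro n
    induction n with
    | zero => simp
    | succ n ih =>
      have h3 : g • c ^ n = c ^ n := by rw [smul_pow', hc]
      rw [pow_succ', mul_smul, ih, smul_mul', h3, h1, pow_succ, mul_assoc]
  have h3 := h2 (orderOf g)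
  rw [pow_orderOf_eq_one, one_smul] at h3
  have h4 : c ^ orderOf g = 1 := by
    have := mul_right_cancel (a := c ^ orderOf g) (b := y) (c := 1) (by rw [← h3, one_mul])
    exact this
  obtain ⟨k, hk⟩ := hg
  rw [hk, pow_succ, pow_mul, pow_two, sq, one_pow, one_mul] at h4
  rw [h1, h4, one_mul]

/-- the vectors fixed by `⟨A^H⟩` modulo `C_M(⟨A^H⟩)` -/
def wz (M : Type v) [Group M] [MulDistribMulAction H M] (A : Subgroup H) (sq : ∀ m : M, m * m = 1) : Subgroup M where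
  carrier := {w | ∀ k ∈ Km A, (k • w) * w⁻¹ ∈ cv M (Km A : Set H)}
  one_mem' := fun k _ => by rw [smul_one, inv_one, mul_one]; exact one_mem _
  mul_mem' := fun {a b} ha hb k hk => by
    have hcomm := comm_of_sq sq
    have e : k • (a * b) * (a * b)⁻¹ = ((k • a) * a⁻¹) * ((k • b) * b⁻¹) := by
      rw [smul_mul', mul_inv_rev, hcomm b⁻¹ a⁻¹]
      calc k • a * k • b * (a⁻¹ * b⁻¹) = k • a * (k • b * a⁻¹) * b⁻¹ := by group
        _ = k • a * (a⁻¹ * k • b) * b⁻¹ := by rw [hcomm (k • b) a⁻¹]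
        _ = _ := by group
    rw [e]
    exact mul_mem (ha k hk) (hb k hk)
  inv_mem' := fun {a} ha k hk => by
    have h1 := inv_mem (ha k hk)
    have hcomm := comm_of_sq sq
    have e : k • a⁻¹ * a⁻¹⁻¹ = ((k • a) * a⁻¹)⁻¹ := by
      rw [smul_inv', inv_inv, mul_inv_rev, inv_inv, hcomm]
    rw [e]
    exact h1

omit [Finite H] [Finite M] in
theorem mem_wz {sq : ∀ m : M, m * m = 1} {w : M} :
    w ∈ wz M A sq ↔ ∀ k ∈ Km A, (k • w) * w⁻¹ ∈ cv M (Km A : Set H) := Iff.rfl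

omit [Finite H] [Finite M] in
theorem smul_mem_wz {sq : ∀ m : M, m * m = 1} (g : H) {w : M} (hw : w ∈ wz M A sq) : g • w ∈ wz M A sq := by
  intro k hk
  have h1 : g⁻¹ * k * g ∈ Km A := by
    have := (inferInstance : (Km A).Normal).conj_mem k hk g⁻¹
    rwa [inv_inv] at this
  have h2 := smul_mem_cvKm g (hw _ h1)
  rw [smul_mul', smul_inv', smul_smul] at h2
  have e : g * (g⁻¹ * k * g) = k * g := by group
  rwa [e, mul_smul] at h2

omit [Finite M] in
/-- **the second vector** -/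
theorem exists_vec [Finite M] (h : LB H M T A) {Y : Subgroup M} (TY : ∀ t ∈ T, ∀ w ∈ Y, t • w ∈ Y)
    (hY : ¬ ∀ g : H, Odd (orderOf g) → ∀ w ∈ Y, g • w = w) :
    ∃ u ∈ (Y ⊔ wz M A h.sq) ⊓ cmm M A, u ∉ cv M (Km A : Set H) := by
  by_contra hc
  push Not at hc
  apply hY
  intro g hg y hy
  have hgK : g ∈ Km A := mem_of_odd h.two h.gen hg
  have hcomm := comm_of_sq h.sq
  -- `y` is fixed by `T ∩ K₀` modulo `U₀`
  let U0 : Subgroup M := cv M (Km A : Set H) ⊓ cmm M A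
  have hn0 : U0.Normal := normal_of_sq h.sq _
  have hU0 : ∀ g : H, ∀ m ∈ U0, g • m ∈ U0 := fun g m hm => ⟨smul_mem_cvKm g hm.1, smul_mem_cmm g hm.2⟩
  let _ := modAct (H := H) U0 hU0
  have hsm : ∀ (g : H) (m : M), g • (QuotientGroup.mk m : M ⧸ U0) = QuotientGroup.mk (g • m) := fun _ _ => rfl
  have hone : ∀ a b : M, (QuotientGroup.mk a : M ⧸ U0) = QuotientGroup.mk b ↔ a * b⁻¹ ∈ U0 := by
    intro a b
    rw [QuotientGroup.eq_iff_div_mem, div_eq_mul_inv]
  have sqV : ∀ y : M ⧸ U0, y * y = 1 := by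
    intro y
    obtain ⟨m, rfl⟩ := QuotientGroup.mk_surjective y
    rw [← QuotientGroup.mk_mul, h.sq, QuotientGroup.mk_one]
  have htop : ¬ 2 ∣ (T ⊓ Km A).relIndex (Km A) := by
    rw [inf_relIndex_right, ← Lib.SylowNormalInf.relIndex_sup_of_normal]
    exact fun h3 => h.syl (h3.trans (relIndex_dvd_index_of_le le_sup_left))
  have htf : ∀ t ∈ T ⊓ Km A, t • (QuotientGroup.mk y : M ⧸ U0) = QuotientGroup.mk y := by
    intro t ht
    rw [hsm, hone]
    have h1 : (t • y) * y⁻¹ ∈ cmm M A := mem_cmm ht.2 y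
    have h2 : (t • y) * y⁻¹ ∈ Y := mul_mem (TY t ht.1 y hy) (inv_mem hy)
    exact ⟨hc _ ⟨le_sup_left (a := Y) h2, h1⟩, h1⟩
  obtain ⟨m0, hm0, hm1⟩ := exists_fix_coset (H := H) (M := M ⧸ U0) (T := T ⊓ Km A) (R := Km A) sqV htop htf
    (I := (cmm M A).map (QuotientGroup.mk' U0)) (fun k hk => by
      rw [hsm]
      exact ⟨(k • y) * y⁻¹, mem_cmm hk y, rfl⟩)
  obtain ⟨w, rfl⟩ := QuotientGroup.mk_surjective m0
  obtain ⟨v, hv, hvw⟩ := hm1
  -- `w y⁻¹ ∈ U¹`
  have hw1 : w * y⁻¹ ∈ cmm M A := by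
    have h1 : (QuotientGroup.mk v : M ⧸ U0) = QuotientGroup.mk (w * y⁻¹) := hvw
    rw [hone] at h1
    have h2 : w * y⁻¹ = (v * (w * y⁻¹)⁻¹)⁻¹ * v := by group
    rw [h2]
    exact mul_mem (inv_mem h1.2) hv
  have hw2 : w ∈ wz M A h.sq := by
    intro k hk
    have h1 := hm0 k hk
    rw [hsm, hone] at h1
    exact h1.1
  have hw3 : w * y⁻¹ ∈ cv M (Km A : Set H) := by
    refine hc _ ⟨mul_mem (le_sup_right (a := Y) hw2) (le_sup_left (a := Y) (inv_mem hy)), hw1⟩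
  -- hence `y` is fixed by `K₀` modulo `U₀`
  have hy2 : (g • y) * y⁻¹ ∈ cv M (Km A : Set H) := by
    have h1 : y = (w * y⁻¹)⁻¹ * w := by group
    have h2 : y ∈ wz M A h.sq := by
      rw [h1]
      refine mul_mem (inv_mem ?_) hw2
      intro k hk
      rw [hw3 k hk, mul_inv_cancel]
      exact one_mem _
    exact h2 g hgK
  exact fix_of_odd h.sq hg (hy2 g hgK)

omit [Finite M] in
/-- a translate of `x` in `U¹` -/
theorem exists_shift [Finite M] (h : LB H M T A) {x : M} (tx : ∀ t ∈ T, t • x = x) :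
    ∃ x1 ∈ cmm M A, ∀ g : H, g • x1 = x1 ↔ g • x = x := by
  have hcomm := comm_of_sq h.sq
  obtain ⟨x0, h0, h1⟩ := exists_fix_coset (T := T) (R := ⊤) h.sq (by rw [relIndex_top_right]; exact h.syl) tx
    (I := cmm M A) (fun g _ => h.orb_eq tx g)
  refine ⟨x0 * x⁻¹, h1, fun g => ?_⟩
  rw [smul_mul', smul_inv', h0 g (mem_top g), mul_right_inj, inv_inj]

/-- the output of the core -/
structure Cor (H : Type u) [Group H] (M : Type v) [Group M] [MulDistribMulAction H M] (T A : Subgroup H)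
    (Y : Subgroup M) (x : M) (N : Type v) [Group N] [MulDistribMulAction H N] (A' : Subgroup H) (x' u' : N) : Prop where
  lb : LB H N T A'
  le : A' ≤ A
  tx : ∀ t ∈ T, t • x' = x'
  tu : ∀ t ∈ T, t • u' = u'
  mx : ¬ ∀ g : H, g • x' = x'
  mu : ¬ ∀ g : H, g • u' = u'
  sx : ∀ R : Subgroup H, T ≤ R → ((∀ g ∈ R, g • x' = x') ↔ ∀ g ∈ R, g • x = x)
  su : ∀ g : H, Odd (orderOf g) → (∀ w ∈ Y, g • w = w) → g • u' = u'

/-- **The core of KL***. -/
theorem core (h : LB H M T A) (hM : MLK.{u, v}) {x : M} (tx : ∀ t ∈ T, t • x = x) (hx : ¬ ∀ g : H, g • x = x)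
    {Y : Subgroup M} (TY : ∀ t ∈ T, ∀ w ∈ Y, t • w ∈ Y) (hY : ¬ ∀ g : H, Odd (orderOf g) → ∀ w ∈ Y, g • w = w) :
    ∃ (N : Type v) (_ : Group N) (_ : Finite N) (_ : MulDistribMulAction H N) (A' : Subgroup H) (x' u' : N),
      Cor H M T A Y x N A' x' u' := by
  obtain ⟨x1, hx1, hs⟩ := exists_shift h tx
  have tx1 : ∀ t ∈ T, t • x1 = x1 := fun t ht => (hs t).2 (tx t ht)
  have hx1' : ¬ ∀ g : H, g • x1 = x1 := fun hc => hx fun g => (hs g).1 (hc g)
  obtain ⟨N, _, _, _, f, s⟩ := h.exists_sec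
  obtain ⟨A', hAA, hA'⟩ := s.exists_atom h hM tx1 hx1' hx1
  obtain ⟨u, ⟨hu1, hu2⟩, hu3⟩ := exists_vec h TY hY
  -- the invariant subgroup
  let E : Subgroup N := ((Y ⊔ wz M A h.sq).subgroupOf (cmm M A)).map f
  have hYW : ∀ t ∈ T, ∀ w ∈ Y ⊔ wz M A h.sq, t • w ∈ Y ⊔ wz M A h.sq := by
    intro t ht w hw
    have hn : (wz M A h.sq).Normal := normal_of_sq h.sq _
    obtain ⟨y, hy, w0, hw0, rfl⟩ := mem_sup_of_normal_right.1 hw
    rw [smul_mul']
    exact mul_mem (le_sup_left (a := Y) (TY t ht y hy)) (le_sup_right (a := Y) (smul_mem_wz t hw0))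
  have hE : ∀ t ∈ T, ∀ w ∈ E, t • w ∈ E := by
    rintro t ht _ ⟨w, hw, rfl⟩
    refine ⟨⟨t • (w : M), smul_mem_cmm t w.2⟩, hYW t ht _ hw, ?_⟩
    exact s.eqv t w
  have hE1 : E ≠ ⊥ := by
    intro h1
    have h2 : f ⟨u, hu2⟩ ∈ E := ⟨⟨u, hu2⟩, hu1, rfl⟩
    rw [h1, mem_bot, s.ker] at h2
    exact hu3 h2
  have sqN := s.sqN h
  obtain ⟨u', hu', hu'1, tu'⟩ := exists_fix sqN h.two hE hE1
  have hirr := s.irr h hM tx1 hx1' hx1
  refine ⟨N, inferInstance, inferInstance, inferInstance, A', f ⟨x1, hx1⟩, u', hA', hAA, fun t ht => s.tfix (tx1 t ht),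
    tu', ?_, ?_, ?_, ?_⟩
  · exact fun hc => hx1' fun g => (s.fix_iff h (u := ⟨x1, hx1⟩) tx1 (R := ⊤) le_top).1 (fun g _ => hc g) g (mem_top g)
  · intro hc
    -- the fixed vectors are an invariant subgroup
    have h1 : ∀ g : H, ∀ w ∈ cv N ((⊤ : Subgroup H) : Set H), g • w ∈ cv N ((⊤ : Subgroup H) : Set H) := by
      intro g w hw
      rw [hw g (mem_top g)]
      exact hw
    rcases hirr _ h1 with h2 | h2
    · have h3 : u' ∈ cv N ((⊤ : Subgroup H) : Set H) := fun g _ => hc g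
      rw [h2] at h3
      exact hu'1 (mem_bot.1 h3)
    · refine hx1' fun g => (s.fix_iff h (u := ⟨x1, hx1⟩) tx1 (R := ⊤) le_top).1 (fun g _ => ?_) g (mem_top g)
      have h3 : f ⟨x1, hx1⟩ ∈ cv N ((⊤ : Subgroup H) : Set H) := h2 ▸ mem_top _
      exact h3 g (mem_top g)
  · intro R hTR
    rw [s.fix_iff h (u := ⟨x1, hx1⟩) tx1 hTR]
    exact ⟨fun h1 g hg => (hs g).1 (h1 g hg), fun h1 g hg => (hs g).2 (h1 g hg)⟩
  · intro g hg hgY
    obtain ⟨w, hw, rfl⟩ := hu'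
    rw [s.smul_eq_iff]
    have hgK : g ∈ Km A := mem_of_odd h.two h.gen hg
    have hn : (wz M A h.sq).Normal := normal_of_sq h.sq _
    have hw' : (w : M) ∈ Y ⊔ wz M A h.sq := hw
    obtain ⟨y, hy, w0, hw0, hyw⟩ := mem_sup_of_normal_right.1 hw'
    rw [← hyw]
    have hcomm := comm_of_sq h.sq
    have e : g • (y * w0) * (y * w0)⁻¹ = (g • w0) * w0⁻¹ := by
      rw [smul_mul', hgY y hy, mul_inv_rev, hcomm y]
      calc g • w0 * y * (w0⁻¹ * y⁻¹) = g • w0 * (y * w0⁻¹) * y⁻¹ := by group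
        _ = g • w0 * (w0⁻¹ * y) * y⁻¹ := by rw [hcomm y w0⁻¹]
        _ = _ := by group
    rw [e]
    exact hw0 g hgK

end core

end Cfsg.Agent.Omega.KL.Star.Core
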