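import Cfsg.Agent.Omega.ML.Ex.Crw
import Cfsg.Agent.Omega.ML.Ex.RedT
import Cfsg.Agent.Omega.ML.Ex.RowU33X
import Cfsg.Agent.Omega.KL.StarD.Def

/-!
# LEMMA CRW for several components (helper178, bb #24302, LEMMA CRW)

`SysB H M T A x` : `H` faithful and irreducible on `M`, `A` an exact low atom, `T` a Sylow 2-subgroup, `x ≠ 1` a
`T`-fixed vector.  `Y ≤ M`, `Y ≠ 1`, is normalised by `N_H(T)` and by every `T`-minimal `P` which moves `x`.
**Then every `T`-fixed vector lies in `Y`.**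

* `fixE`, `crE` : the facts about one component `E` on `N = [M,E]`;
* `fixK` : `T ≤ P` fixes `x ≠ 1`: `P ⊓ K` centralises `C_M(T ⊓ K)`;
* `mem_of_parts` : a vector all whose parts are in `D`;
* `CmpM.crw`;  **`le_of_sysB`**;  **`false_of_sysB`**.
-/

set_option autoImplicit false
set_option linter.style.haveILetI false
set_option linter.unusedSectionVars false

namespace Cfsg.Agent.Omega.KL.Star.CrwB

open Subgroup Cfsg Cfsg.Agent.ZN Cfsg.Agent.Omega.NOThree.NoOver Cfsg.Agent.Omega.ML.CD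
open Cfsg.Agent.ClassTwoFusion.Quad Cfsg.Agent.Omega.ML.MinFrame Cfsg.Agent.Omega.ML.Ex Cfsg.Agent.Omega.ML.Ex.Red
open Cfsg.Agent.Omega.ML.Ex.SecLow
open Cfsg.Agent.Omega.ML.LieRow.CRB (fix_splitAb HasSplitAb hasSplitAb_of_lie)
open Cfsg.Agent.MinSimple.MinParabolic (IsMinPar le_of_forall)
open Cfsg.Agent.Omega.ML.Final (MLK)
open Cfsg.Agent.FixBN (HasSplit)

universe u v

section

variable {X : Type u} [Group X] {M : Type v} [Group M] [MulDistribMulAction X M] {T B K E : Subgroup X} {lam : M}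

/-- the action of `E` on `[M,E]` -/
@[reducible] def actE (M : Type v) [Group M] [MulDistribMulAction X M] (E : Subgroup X) :
    MulDistribMulAction E (cm M E) where
  smul e n := ⟨(e : X) • (n : M), smul_mem_cm (le_normalizer e.2) n.2⟩
  one_smul n := Subtype.ext (one_smul X (n : M))
  mul_smul a b n := Subtype.ext (mul_smul (a : X) (b : X) (n : M))
  smul_mul e m n := Subtype.ext (smul_mul' (e : X) (m : M) (n : M))
  smul_one e := Subtype.ext (smul_one (e : X))

/-- what is used of one component -/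
structure Good (M : Type v) [Group M] [MulDistribMulAction X M] (E : Subgroup X) : Prop where
  ab : HasSplitAb 2 E
  irr : ∀ W : Subgroup M, W ≤ cm M E → (∀ e ∈ E, ∀ w ∈ W, e • w ∈ W) → W = ⊥ ∨ W = cm M E

/-- an overgroup of `T ⊓ E` in `E` which fixes one vector of `[M,E]` -/
theorem fixE [Finite X] [Finite M] (g : Good M E) (two : IsPGroup 2 T) (sylE : ¬ 2 ∣ (T ⊓ E).relIndex E)
    (sq : ∀ m : M, m * m = 1) {R : Subgroup X} (hR : T ⊓ E ≤ R) {a : M} (ha : a ∈ cm M E) (a1 : a ≠ 1)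
    (hRa : ∀ r ∈ R, r ∈ E → r • a = a) :
    ∀ r ∈ R, r ∈ E → ∀ n ∈ cm M E, (∀ s ∈ T ⊓ E, s • n = n) → r • n = n := by
  letI := actE M E
  intro r hrR hrE n hn hs
  have hi : ¬ 2 ∣ (T.subgroupOf E).index := by
    rw [inf_relIndex_right] at sylE
    exact sylE
  have h0 : HasSplitAb 2 (⊤ : Subgroup E) := g.ab.congr Subgroup.topEquiv.symm
  have h1 := fix_splitAb (H := E) (K := ⊤) (T := T.subgroupOf E) (R := R.subgroupOf E) (N := cm M E) inferInstance h0
    (two.comap_of_injective _ E.subtype_injective) hi (top_sup_eq _) (fun m => Subtype.ext (sq m))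
    (fun L hL => by
      have h2 : L.map (cm M E).subtype ≤ cm M E := map_subtype_le L
      rcases g.irr _ h2 (by
        rintro e he _ ⟨w, hw, rfl⟩
        exact ⟨_, hL ⟨e, he⟩ w hw, rfl⟩) with h3 | h3
      · left
        exact (Subgroup.map_eq_bot_iff_of_injective _ (cm M E).subtype_injective).1 h3
      · right
        rw [eq_top_iff]
        intro w _
        have h4 : (w : M) ∈ L.map (cm M E).subtype := by rw [h3]; exact w.2
        obtain ⟨w', hw', h5⟩ := h4
        rwa [← Subtype.ext (show (w' : M) = w from h5)])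
    (fun t ht => mem_subgroupOf.2 (hR ⟨mem_subgroupOf.1 ht, t.2⟩)) (y := (⟨a, ha⟩ : cm M E))
    (fun h2 => a1 (congrArg Subtype.val h2))
    (fun r hr => Subtype.ext (hRa r (mem_subgroupOf.1 hr) r.2)) ⟨r, hrE⟩ (mem_subgroupOf.2 hrR) ⟨n, hn⟩
    (fun t ht => Subtype.ext (hs t ⟨mem_subgroupOf.1 ht, t.2⟩))
  exact congrArg Subtype.val h1

/-- Curtis-Richen for one component -/
theorem crE [Finite X] [Finite M] (g : Good M E) (two : IsPGroup 2 T) (sylE : ¬ 2 ∣ (T ⊓ E).relIndex E)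
    (sq : ∀ m : M, m * m = 1) {W : Subgroup M} (hWN : W ≤ cm M E) (hW1 : W ≠ ⊥)
    (hWT : ∀ w ∈ W, ∀ s ∈ T ⊓ E, s • w = w)
    (hWn : ∀ n ∈ E, n ∈ normalizer ((T ⊓ E : Subgroup X) : Set X) → ∀ w ∈ W, n • w ∈ W) :
    ∀ n ∈ cm M E, (∀ s ∈ T ⊓ E, s • n = n) → n ∈ W := by
  letI := actE M E
  intro n hn hs
  have hi : ¬ 2 ∣ (T.subgroupOf E).index := by
    rw [inf_relIndex_right] at sylE
    exact sylE
  have h0 : HasSplit 2 E := by
    obtain ⟨P, U, h1, h2, -⟩ := g.ab
    exact ⟨P, U, h1, h2⟩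
  have h1 := CR.Bl.cr_split h0 (S := T.subgroupOf E) (two.comap_of_injective _ E.subtype_injective) hi
    (M := cm M E) (fun m => Subtype.ext (sq m))
    (fun L hL => by
      have h2 : L.map (cm M E).subtype ≤ cm M E := map_subtype_le L
      rcases g.irr _ h2 (by
        rintro e he _ ⟨w, hw, rfl⟩
        exact ⟨_, hL ⟨e, he⟩ w hw, rfl⟩) with h3 | h3
      · left
        exact (Subgroup.map_eq_bot_iff_of_injective _ (cm M E).subtype_injective).1 h3
      · right
        rw [eq_top_iff]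
        intro w _
        have h4 : (w : M) ∈ L.map (cm M E).subtype := by rw [h3]; exact w.2
        obtain ⟨w', hw', h5⟩ := h4
        rwa [← Subtype.ext (show (w' : M) = w from h5)])
    (W := W.subgroupOf (cm M E))
    (fun w hw s hs => Subtype.ext (hWT w (mem_subgroupOf.1 hw) s ⟨mem_subgroupOf.1 hs, s.2⟩))
    (fun k hk w hw => by
      refine mem_subgroupOf.2 (hWn k k.2 ?_ w (mem_subgroupOf.1 hw))
      rw [mem_normalizer_iff] at hk ⊢
      intro s
      constructor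
      · rintro ⟨h2, h3⟩
        exact ⟨mem_subgroupOf.1 ((hk ⟨s, h3⟩).1 (mem_subgroupOf.2 h2)),
          E.mul_mem (E.mul_mem k.2 h3) (E.inv_mem k.2)⟩
      · rintro ⟨h2, h3⟩
        have h4 : s ∈ E := by
          have := E.mul_mem (E.mul_mem (E.inv_mem k.2) h3) k.2
          have e : (k : X)⁻¹ * (k * s * (k : X)⁻¹) * k = s := by group
          rwa [e] at this
        exact ⟨mem_subgroupOf.1 ((hk ⟨s, h4⟩).2 (mem_subgroupOf.2 h2)), h4⟩)
    (by
      intro h2
      apply hW1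
      rw [eq_bot_iff]
      intro w hw
      have h3 : (⟨w, hWN hw⟩ : cm M E) ∈ W.subgroupOf (cm M E) := mem_subgroupOf.2 hw
      rw [h2, mem_bot] at h3
      exact mem_bot.2 (congrArg Subtype.val h3))
    ⟨n, hn⟩ (fun s hsT => Subtype.ext (hs s ⟨mem_subgroupOf.1 hsT, s.2⟩))
  exact mem_subgroupOf.1 h1

/-- `N_E(T ⊓ E)` normalises `T ⊓ K` -/
theorem norm_TK [Finite X] (h : Cp T K E (K ⊓ centralizer (E : Set X))) {n : X} (hn : n ∈ E)
    (hnN : n ∈ normalizer ((T ⊓ E : Subgroup X) : Set X)) : n ∈ normalizer ((T ⊓ K : Subgroup X) : Set X) := by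
  have key : ∀ n ∈ E, n ∈ normalizer ((T ⊓ E : Subgroup X) : Set X) → ∀ s ∈ T ⊓ K, n * s * n⁻¹ ∈ T ⊓ K := by
    rintro n hn hnN s ⟨hsT, hsK⟩
    obtain ⟨e, he, f, hf, rfl⟩ := h.KEF s hsK
    have h1 : e ∈ T ⊓ E := h.pr_T ⟨he, f, hf, hsT⟩
    have h2 : n * e * n⁻¹ ∈ T ⊓ E := (mem_normalizer_iff.1 hnN e).1 h1
    have h3 : f ∈ T := by
      have := T.mul_mem (T.inv_mem h1.1) hsT
      rwa [inv_mul_cancel_left] at this
    have h4 : n * (e * f) * n⁻¹ = (n * e * n⁻¹) * f := by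
      have h5 : f * n⁻¹ = n⁻¹ * f := (h.cEF _ (E.inv_mem hn) f hf).symm
      calc n * (e * f) * n⁻¹ = n * e * (f * n⁻¹) := by group
        _ = _ := by rw [h5]; group
    rw [h4]
    exact ⟨T.mul_mem h2.1 h3, K.mul_mem (h.EK h2.2) (h.FK hf)⟩
  rw [mem_normalizer_iff]
  intro s
  refine ⟨key n hn hnN s, fun hs => ?_⟩
  have h1 := key n⁻¹ (E.inv_mem hn) ((normalizer ((T ⊓ E : Subgroup X) : Set X)).inv_mem hnN) _ hs
  have e : n⁻¹ * (n * s * n⁻¹) * n⁻¹⁻¹ = s := by group
  rwa [e] at h1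

variable [Finite X] [Finite M] (h : CmpM T B K E lam)
  (irr : ∀ W : Subgroup M, (∀ g : X, ∀ w ∈ W, g • w ∈ W) → W = ⊥ ∨ W = ⊤)

omit [Finite X] [Finite M] in
include h irr in
/-- the part in `[M,E]` of a vector fixed by `T ⊓ K` -/
theorem part_fix {a a' : M} (ha : a ∈ cm M E) (ha' : a' ∈ cv M (E : Set X))
    (hm : ∀ s ∈ T ⊓ K, s • (a * a') = a * a') : ∀ s ∈ T ⊓ E, s • a = a := by
  rintro s ⟨hsT, hsE⟩
  have h1 := hm s ⟨hsT, h.cmp.EK hsE⟩
  rw [smul_mul', ha' s hsE] at h1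
  exact (h.uniq irr (smul_mem_cm (le_normalizer hsE) ha) ha ha' ha' h1).1

include h irr in
/-- **(1)** `T ≤ P` fixes `x ≠ 1`: `P ⊓ K` centralises `C_M(T ⊓ K)` -/
theorem fixK (g : Good M E) {P : Subgroup X} (hTP : T ≤ P) {x : M} (x1 : x ≠ 1) (hx : ∀ p ∈ P, p • x = x) :
    ∀ k ∈ P, k ∈ K → ∀ m : M, (∀ s ∈ T ⊓ K, s • m = m) → k • m = m := by
  have sq := h.cmp.mn.sq
  have hcp := h.cmp.cp
  have hnc : ∀ c ∈ centralizer (E : Set X), c ∈ normalizer (E : Set X) := fun c hc =>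
    (centralizer_le_normalizer (E : Set X)) hc
  have hcvN : (cv M (E : Set X)).Normal := ⟨fun x hx g => by
    rw [comm_of_sq' sq g x, mul_inv_cancel_right]; exact hx⟩
  obtain ⟨a, ha, a', ha', hxa, ha1, -⟩ := h.exists_part irr (fun t ht => hx t (hTP ht)) x1
  -- the projection of `P ⊓ K` fixes `a`
  have hRa : ∀ e ∈ hcp.pr P, e ∈ E → e • a = a := by
    rintro e ⟨he, c, hc, hec⟩ -
    have h1 := hx _ hec
    rw [hxa, smul_mul', mul_smul, mul_smul, h.cenN c hc.1 hc.2 a ha] at h1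
    have h2 : c • a' ∈ cv M (E : Set X) := CmpM.smul_mem_cv (hnc c hc.2) ha'
    rw [h2 e he] at h1
    exact (h.uniq irr (smul_mem_cm (le_normalizer he) ha) ha h2 ha' h1).1
  have hfE := fixE g h.cmp.mn.two h.cmp.sylE sq (R := hcp.pr P)
    ((inf_le_inf_right _ hTP).trans (hcp.inf_le_pr P)) ha ha1 hRa
  -- modulo `C_M(E)`
  have key : ∀ k ∈ P, k ∈ K → ∀ m : M, (∀ s ∈ T ⊓ K, s • m = m) → k • m * m ∈ cv M (E : Set X) := by
    intro k hkP hkK m hm
    obtain ⟨b, hb, b', hb', rfl⟩ := mem_sup_of_normal_right.1 (h.sup_top irr m)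
    obtain ⟨e, he, f, hf, rfl⟩ := hcp.KEF k hkK
    have h1 : e • b = b := hfE e ⟨he, f, hf, hkP⟩ he b hb (part_fix h irr hb hb' hm)
    have h2 : f • b' ∈ cv M (E : Set X) := CmpM.smul_mem_cv (hnc f hf.2) hb'
    have h3 : (e * f) • (b * b') * (b * b') = (f • b') * b' := by
      rw [smul_mul', mul_smul, mul_smul, h.cenN f hf.1 hf.2 b hb, h1, h2 e he, comm_of_sq' sq b (f • b'), mul_assoc,
        ← mul_assoc b, sq, one_mul]
    rw [h3]
    exact Subgroup.mul_mem _ h2 hb'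
  intro k hkP hkK m hm
  have h1 : k • m * m = 1 := by
    refine h.eq_one_of_fix irr fun t ht e he => ?_
    have h4 : t⁻¹ * k * t ∈ P := P.mul_mem (P.mul_mem (P.inv_mem (hTP ht)) hkP) (hTP ht)
    have h5 : t⁻¹ * k * t ∈ K := by
      have := h.cmp.normK.conj_mem k hkK t⁻¹
      rwa [inv_inv] at this
    have h6 : ∀ s ∈ T ⊓ K, s • (t⁻¹ • m) = t⁻¹ • m := by
      rintro s ⟨hsT, hsK⟩
      have h7 : t * s * t⁻¹ ∈ T ⊓ K :=
        ⟨T.mul_mem (T.mul_mem ht hsT) (T.inv_mem ht), h.cmp.normK.conj_mem s hsK t⟩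
      have h8 := hm _ h7
      rw [mul_smul, mul_smul] at h8
      have h9 := congrArg (fun w => t⁻¹ • w) h8
      simp only [inv_smul_smul] at h9
      exact h9
    have h7 := key _ h4 h5 _ h6 e he
    have h8 : (t⁻¹ * k * t) • (t⁻¹ • m) * (t⁻¹ • m) = t⁻¹ • (k • m * m) := by
      rw [smul_mul', mul_smul, mul_smul, smul_inv_smul]
    rw [h8] at h7
    rw [mul_smul, mul_smul, h7, smul_inv_smul]
  rw [eq_inv_of_mul_eq_one_left h1, inv_eq_of_mul_eq_one_right (sq m)]

include h in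
/-- the other conjugates of `[M,E]` are centralised by `E` -/
theorem conj_cv {t : X} (ht : t ∈ T) (htn : t ∉ normalizer (E : Set X)) {a : M} (ha : a ∈ cm M E) :
    t • a ∈ cv M (E : Set X) := by
  intro f hf
  obtain ⟨h1, h2⟩ := h.conj_inv ht htn hf
  have h3 := h.cenN _ h1 h2 a ha
  rwa [mul_smul, mul_smul, inv_smul_eq_iff] at h3

include h irr in
/-- a vector all whose parts are in `D` -/
theorem mem_of_parts {D : Subgroup M} {y : M}
    (hD : ∀ t ∈ T, ∀ a ∈ cm M E, ∀ a' ∈ cv M (E : Set X), t⁻¹ • y = a * a' → t • a ∈ D) : y ∈ D := by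
  classical
  have sq := h.cmp.mn.sq
  have hcvN : (cv M (E : Set X)).Normal := ⟨fun x hx g => by
    rw [comm_of_sq' sq g x, mul_inv_cancel_right]; exact hx⟩
  induction hn : {t : X | t ∈ T ∧ t⁻¹ • y ∉ cv M (E : Set X)}.ncard using Nat.strong_induction_on generalizing y with
  | _ n IH =>
  by_cases h0 : ∀ t ∈ T, t⁻¹ • y ∈ cv M (E : Set X)
  · have h1 : y = 1 := h.eq_one_of_fix irr fun t ht e he => by
      rw [mul_smul, mul_smul, h0 t ht e he, smul_inv_smul]
    rw [h1]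
    exact D.one_mem
  push Not at h0
  obtain ⟨r, hr, hry⟩ := h0
  obtain ⟨a, ha, a', ha', hra⟩ := mem_sup_of_normal_right.1 (h.sup_top irr (r⁻¹ • y))
  have hraD : r • a ∈ D := hD r hr a ha a' ha' hra.symm
  -- the rest
  have hin : ∀ t ∈ T, t⁻¹ * r ∈ normalizer (E : Set X) → t⁻¹ • ((r • a) * y) ∈ cv M (E : Set X) := by
    intro t ht htr
    have h1 : t⁻¹ • ((r • a) * y) = (t⁻¹ * r) • a' := by
      have h2 : y = r • (a * a') := by rw [hra, smul_inv_smul]
      rw [h2, smul_mul' r a a', ← mul_assoc, sq, one_mul, mul_smul]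
    rw [h1]
    exact CmpM.smul_mem_cv htr ha'
  have hout : ∀ t ∈ T, t⁻¹ * r ∉ normalizer (E : Set X) → ∃ c ∈ cv M (E : Set X),
      t⁻¹ • ((r • a) * y) = c * t⁻¹ • y := by
    intro t ht htr
    refine ⟨(t⁻¹ * r) • a, conj_cv h (T.mul_mem (T.inv_mem ht) hr) htr ha, ?_⟩
    rw [smul_mul', mul_smul]
  have hlt : {t : X | t ∈ T ∧ t⁻¹ • ((r • a) * y) ∉ cv M (E : Set X)}.ncard < n := by
    rw [← hn]
    refine Set.ncard_lt_ncard ⟨?_, ?_⟩ (Set.toFinite _)
    · rintro t ⟨ht, ht1⟩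
      refine ⟨ht, fun h1 => ht1 ?_⟩
      by_cases htr : t⁻¹ * r ∈ normalizer (E : Set X)
      · exact hin t ht htr
      · obtain ⟨c, hc, h2⟩ := hout t ht htr
        rw [h2]
        exact Subgroup.mul_mem _ hc h1
    · intro h1
      have h2 := h1 (show r ∈ {t : X | t ∈ T ∧ t⁻¹ • y ∉ cv M (E : Set X)} from ⟨hr, hry⟩)
      refine h2.2 (hin r hr ?_)
      rw [inv_mul_cancel]
      exact Subgroup.one_mem _
  have h1 : (r • a) * y ∈ D := by
    refine IH _ hlt ?_ rfl
    intro t ht b hb b' hb' htb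
    by_cases htr : t⁻¹ * r ∈ normalizer (E : Set X)
    · have h2 := hin t ht htr
      rw [htb] at h2
      have h3 := (h.uniq irr hb (cm M E).one_mem hb' h2 (by rw [one_mul])).1
      rw [h3, smul_one]
      exact D.one_mem
    · obtain ⟨c, hc, h2⟩ := hout t ht htr
      refine hD t ht b hb (c⁻¹ * b') (Subgroup.mul_mem _ (Subgroup.inv_mem _ hc) hb') ?_
      rw [h2] at htb
      have h3 : t⁻¹ • y = c⁻¹ * (b * b') := by rw [← htb, inv_mul_cancel_left]
      rw [h3, ← mul_assoc, comm_of_sq' sq c⁻¹ b, mul_assoc]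
  have h2 : y = (r • a)⁻¹ * ((r • a) * y) := by rw [inv_mul_cancel_left]
  rw [h2]
  exact D.mul_mem (D.inv_mem hraD) h1

include h irr in
/-- **LEMMA CRW for several components** -/
theorem crw (g : Good M E) {x : M} (x1 : x ≠ 1) {Y : Subgroup M} (hne : Y ≠ ⊥)
    (NY : ∀ g ∈ normalizer (T : Set X), ∀ w ∈ Y, g • w ∈ Y)
    (PY : ∀ P : Subgroup X, IsMinPar T P → (∃ p ∈ P, p • x ≠ x) → ∀ p ∈ P, ∀ w ∈ Y, p • w ∈ Y) {y : M}
    (ty : ∀ t ∈ T, t • y = y) : y ∈ Y := by
  classical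
  have sq := h.cmp.mn.sq
  have hcp := h.cmp.cp
  have two := h.cmp.mn.two
  have hcvN : (cv M (E : Set X)).Normal := ⟨fun x hx g => by
    rw [comm_of_sq' sq g x, mul_inv_cancel_right]; exact hx⟩
  by_cases y1 : y = 1
  · rw [y1]
    exact Y.one_mem
  have hB := Crw.norm_D h.cmp.normK h.cmp.gen NY PY fun P hTP hPx k hkP hkK => fixK h irr g hTP x1 hPx k hkP hkK
  set D : Subgroup M := Y ⊓ cv M ((T ⊓ K : Subgroup X) : Set X) with hD
  have hTN : T ≤ normalizer ((T ⊓ K : Subgroup X) : Set X) := by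
    intro t ht
    rw [mem_normalizer_iff]
    intro s
    constructor
    · rintro ⟨h1, h2⟩
      exact ⟨T.mul_mem (T.mul_mem ht h1) (T.inv_mem ht), h.cmp.normK.conj_mem s h2 t⟩
    · rintro ⟨h1, h2⟩
      have e : t⁻¹ * (t * s * t⁻¹) * t = s := by group
      refine ⟨?_, ?_⟩
      · have := T.mul_mem (T.mul_mem (T.inv_mem ht) h1) ht
        rwa [e] at this
      · have := h.cmp.normK.conj_mem _ h2 t⁻¹
        rw [inv_inv] at this
        rwa [e] at this
  have hTKE : T ⊓ E ≤ T ⊓ K := inf_le_inf_left _ h.cmp.EK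
  by_cases hA : ∃ w ∈ D, ∃ e ∈ E, e ∈ normalizer ((T ⊓ E : Subgroup X) : Set X) ∧ e • w ≠ w
  · -- the torus is not trivial
    obtain ⟨w, hw, e, he, heN, hew⟩ := hA
    have h1 : e • w * w ∈ D ⊓ cm M E :=
      ⟨D.mul_mem (hB e (norm_TK hcp he heN) w hw) hw, mem_cm he w⟩
    have h2 : D ⊓ cm M E ≠ ⊥ := by
      intro h3
      rw [h3, mem_bot] at h1
      apply hew
      rw [eq_inv_of_mul_eq_one_left h1, inv_eq_of_mul_eq_one_right (sq w)]
    have h3 := crE g two h.cmp.sylE sq (W := D ⊓ cm M E) inf_le_right h2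
      (fun w hw s hs => hw.1.2 s (hTKE hs))
      (fun n hn hnN w hw => ⟨hB n (norm_TK hcp hn hnN) w hw.1, smul_mem_cm (le_normalizer hn) hw.2⟩)
    have h4 : y ∈ D := by
      refine mem_of_parts h irr fun t ht a ha a' ha' hta => ?_
      rw [ty _ (T.inv_mem ht)] at hta
      have h5 : a ∈ D := (h3 a ha (part_fix h irr ha ha' fun s hs => by rw [← hta]; exact ty s hs.1)).1
      exact hB t (hTN ht) a h5
    exact h4.1
  · -- the torus is trivial
    push Not at hA
    obtain ⟨w, hw, w1, hwf⟩ := Crw.exists_fix sq two hne fun g hg w hw => NY g (le_normalizer hg) w hw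
    have hwD : w ∈ D := ⟨hw, fun s hs => hwf s hs.1⟩
    obtain ⟨b, hb, b', hb', hwb, hb1, -⟩ := h.exists_part irr hwf w1
    have hbN : ∀ n ∈ E, n ∈ normalizer ((T ⊓ E : Subgroup X) : Set X) → n • b = b := by
      intro n hn hnN
      have h1 := hA w hwD n hn hnN
      rw [hwb, smul_mul', hb' n hn] at h1
      exact (h.uniq irr (smul_mem_cm (le_normalizer hn) hb) hb hb' hb' h1).1
    have hz : ∀ m ∈ zpowers b, m = 1 ∨ m = b := by
      rintro m ⟨n, rfl⟩
      change b ^ n = 1 ∨ b ^ n = b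
      rcases Int.even_or_odd' n with ⟨k, rfl | rfl⟩
      · left
        rw [zpow_mul, zpow_ofNat, pow_two, sq, one_zpow]
      · right
        rw [zpow_add, zpow_mul, zpow_ofNat, pow_two, sq, one_zpow, one_mul, zpow_one]
    have h3 := crE g two h.cmp.sylE sq (W := zpowers b) ((zpowers_le).2 hb) (fun h1 => hb1 (zpowers_eq_bot.1 h1))
      (fun w hw s hs => by
        rcases hz w hw with rfl | rfl
        · exact smul_one _
        · exact hbN s hs.2 (le_normalizer hs))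
      (fun n hn hnN w hw => by
        rcases hz w hw with rfl | rfl
        · rw [smul_one]; exact Subgroup.one_mem _
        · rw [hbN n hn hnN]; exact hw)
    -- `y w` has no part in `[M,E]`
    obtain ⟨a, ha, a', ha', hya, ha1, -⟩ := h.exists_part irr ty y1
    have h4 : a = b := by
      rcases hz a (h3 a ha (part_fix h irr ha ha' fun s hs => by rw [← hya]; exact ty s hs.1)) with h5 | h5
      · exact absurd h5 ha1
      · exact h5
    have h5 : y * w = 1 := by
      by_contra h6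
      obtain ⟨c, hc, c', hc', hyc, hc1, -⟩ := h.exists_part irr (x := y * w) (fun t ht => by
        rw [smul_mul', ty t ht, hwf t ht]) h6
      apply hc1
      refine (h.uniq irr hc (cm M E).one_mem hc' (Subgroup.mul_mem _ ha' hb') ?_).1
      rw [← hyc, hya, hwb, h4, one_mul]
      calc b * a' * (b * b') = b * (a' * b) * b' := by group
        _ = b * (b * a') * b' := by rw [comm_of_sq' sq a' b]
        _ = (b * b) * (a' * b') := by group
        _ = a' * b' := by rw [sq, one_mul]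
    rw [eq_inv_of_mul_eq_one_left h5, inv_eq_of_mul_eq_one_right (sq w)]
    exact hw

/-- the two facts about a component of Lie type in characteristic two -/
theorem good_of (ml : MLK.{u, v}) (hKG : IsKGroup X) {X₁ : Type u} [Group X₁] [Finite X₁]
    [MulDistribMulAction X₁ (cm M E)] {a : YY T E →* X₁} (h : Sc T B K E lam a)
    (irr : ∀ W : Subgroup M, (∀ g : X, ∀ w ∈ W, g • w ∈ W) → W = ⊥ ∨ W = ⊤) (hl : IsLieTypeChar 2 (im a E)) :
    Good M E := by
  have hI := h.inX irr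
  have hKG₁ : IsKGroup X₁ := ML.Final.kgroup_of_surj hKG (YY T E) a h.surj
  have hirr := hI.irr_K ml hKG₁
  refine ⟨?_, ?_⟩
  · have hs : IsSimpleGroup (im a E) := hI.simple
    exact (hasSplitAb_of_lie hs hl).congr h.quo.equiv.symm
  · intro W hW hWE
    rcases hirr (W.subgroupOf (cm M E)) (by
      rintro _ ⟨y, hy, rfl⟩ w hw
      refine mem_subgroupOf.2 ?_
      rw [h.act]
      exact hWE y hy w (mem_subgroupOf.1 hw)) with h1 | h1
    · left
      rw [eq_bot_iff]
      intro w hw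
      have h2 : (⟨w, hW hw⟩ : cm M E) ∈ W.subgroupOf (cm M E) := mem_subgroupOf.2 hw
      rw [h1, mem_bot] at h2
      exact mem_bot.2 (congrArg Subtype.val h2)
    · right
      exact le_antisymm hW (subgroupOf_eq_top.1 h1)

end

open Cfsg.Agent.Omega.KL.StarD (SysB)
open Cfsg.Agent.Omega.ML.Ex.Two (ExitN)

/-- the input of RED -/
theorem mn_of_sysB {X : Type u} [Group X] {M : Type v} [Group M] [MulDistribMulAction X M] {T B : Subgroup X} {x : M}
    (h : SysB X M T B x) : Mn T B x where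
  sq := h.sq
  faith := h.faith
  gen := by
    rcases h.irr (orb (⊤ : Subgroup X) x) (fun g w hw => smul_mem_orb (mem_top g) hw) with h1 | h1
    · have h2 := mem_orb_self (⊤ : Subgroup X) x
      rw [h1, mem_bot] at h2
      exact absurd h2 h.x1
    · exact h1
  fixT := h.tx
  odd := h.odd
  two := h.two
  syl := h.syl
  el := h.el
  four := h.four
  exact := h.exact
  atom := h.atom
  low := h.low
  nmax := h.nmax

/-- **LEMMA CRW**: in `SysB` every subgroup `Y ≠ 1` of `M` which is normalised by `N_H(T)` and by every `T`-minimal `P`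
moving `x` contains all the `T`-fixed vectors. -/
theorem le_of_sysB {H : Type u} [Group H] [Finite H] {M : Type v} [Group M] [Finite M] [MulDistribMulAction H M]
    {T A : Subgroup H} {x : M} (ml : MLK.{u, v}) (h2 : ExitN.{u, v}) (h : SysB H M T A x) {Y : Subgroup M} (hne : Y ≠ ⊥)
    (NY : ∀ g ∈ normalizer (T : Set H), ∀ w ∈ Y, g • w ∈ Y)
    (PY : ∀ P : Subgroup H, IsMinPar T P → (∃ p ∈ P, p • x ≠ x) → ∀ p ∈ P, ∀ w ∈ Y, p • w ∈ Y) {y : M}
    (ty : ∀ t ∈ T, t • y = y) : y ∈ Y := by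
  obtain ⟨K, E, hC⟩ := (mn_of_sysB h).exists_cmpM ml h.KH
  letI := hC.qact
  have hs := hC.sc
  have hI := hs.inX h.irr
  have hfin : Finite hC.Xq := inferInstance
  rcases h2 _ _ _ _ _ (InN.of_inX hI hs.atm) (hs.known h.KH) with hl | hu
  · exact crw hC h.irr (good_of ml h.KH hs h.irr hl) h.x1 hne NY PY ty
  · -- `U₃(3)`
    obtain ⟨w, hw, w1, hwf⟩ := Crw.exists_fix h.sq h.two hne fun g hg w hw => NY g (le_normalizer hg) w hw
    by_cases y1 : y = 1
    · rw [y1]
      exact Y.one_mem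
    have hpart : ∀ {z : M}, (∀ t ∈ T, t • z = z) → z ≠ 1 → ∃ c ∈ cm M E, ∃ c' ∈ cv M (E : Set H), z = c * c' ∧ c ≠ 1 ∧
        ∀ t ∈ T, t ∈ normalizer (E : Set H) → t • c = c := fun hz z1 => hC.exists_part h.irr hz z1
    obtain ⟨b, hb, b', hb', hwb, hb1, hbt⟩ := hpart hwf w1
    obtain ⟨a, ha, a', ha', hya, ha1, hat⟩ := hpart ty y1
    have hY : YY T E ≤ normalizer (E : Set H) := sup_le le_normalizer inf_le_right
    have hfixT : ∀ {c : M} (hc : c ∈ cm M E), (∀ t ∈ T, t ∈ normalizer (E : Set H) → t • c = c) →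
        ∀ t ∈ im (QuotientGroup.mk' hC.rep.ker) (T1 T E), t • (⟨c, hc⟩ : cm M E) = ⟨c, hc⟩ := by
      rintro c hc hct _ ⟨t, ht, rfl⟩
      refine Subtype.ext ?_
      rw [hs.act]
      exact hct t ht.1 ht.2
    have hab : a = b := by
      by_contra hne'
      exact RowU33X.dead_two hI hu (x := ⟨a, ha⟩) (y := ⟨b, hb⟩) (fun h3 => ha1 (congrArg Subtype.val h3))
        (fun h3 => hb1 (congrArg Subtype.val h3)) (fun h3 => hne' (congrArg Subtype.val h3)) (hfixT ha hat)
        (hfixT hb hbt)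
    have h5 : y * w = 1 := by
      by_contra h6
      obtain ⟨c, hc, c', hc', hyc, hc1, -⟩ := hpart (z := y * w) (fun t ht => by
        rw [smul_mul', ty t ht, hwf t ht]) h6
      apply hc1
      refine (hC.uniq h.irr hc (cm M E).one_mem hc' (Subgroup.mul_mem _ ha' hb') ?_).1
      rw [← hyc, hya, hwb, hab, one_mul]
      calc b * a' * (b * b') = b * (a' * b) * b' := by group
        _ = b * (b * a') * b' := by rw [comm_of_sq' h.sq a' b]
        _ = (b * b) * (a' * b') := by group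
        _ = a' * b' := by rw [h.sq, one_mul]
    rw [eq_inv_of_mul_eq_one_left h5, inv_eq_of_mul_eq_one_right (h.sq w)]
    exact hw

/-- the form of the consumers -/
theorem false_of_sysB {H : Type u} [Group H] [Finite H] {M : Type v} [Group M] [Finite M] [MulDistribMulAction H M]
    {T A : Subgroup H} {x : M} (ml : MLK.{u, v}) (h2 : ExitN.{u, v}) (h : SysB H M T A x) {Y : Subgroup M} (hne : Y ≠ ⊥)
    (NY : ∀ g ∈ normalizer (T : Set H), ∀ w ∈ Y, g • w ∈ Y)
    (PY : ∀ P : Subgroup H, IsMinPar T P → (∃ p ∈ P, p • x ≠ x) → ∀ p ∈ P, ∀ w ∈ Y, p • w ∈ Y) {y : M}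
    (ty : ∀ t ∈ T, t • y = y) (hy : y ∉ Y) : False :=
  hy (le_of_sysB ml h2 h hne NY PY ty)

end Cfsg.Agent.Omega.KL.Star.CrwB
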