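import Cfsg.Agent.Omega.KL.Star.Core
import Cfsg.Agent.Omega.NO3S.EMany.LowExt

/-!
# THEOREM KL* (helper23, bb #22505 (I); referee helper307, #22816)

`H` acts on the elementary abelian 2-group `M` (not necessarily faithfully), `T` is a Sylow 2-subgroup, `x` is fixed by
`N_H(T)`, `Y ≤ M` is invariant under `T`, and for every `T`-minimal `P` which moves `x` the elements of odd order of `P`
centralise `Y`.  `A` is an exact atom on `M` which moves `⟨x^H⟩`, `A ≤ O₂(C_H(x))` and `A ≤ O₂(C_H(Y) T)`.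

* `Inp T A Y x` : this situation;
* **`Inp.exists_sysE`** : (ML) gives the output `SysE` of the machine EXACT + LOW for a section of `(H, M)`;
* **`Inp.exists_sysT`** : the same with `Two.SysT`;  `Inp.false_of`.
-/

set_option autoImplicit false

namespace Cfsg.Agent.Omega.KL.Star.Main

open Subgroup Cfsg Cfsg.Agent.ZN Cfsg.Agent.ClassTwoFusion.Quad
open Cfsg.Agent.Omega.ML.MinFrame hiding comm_of_sq
open Cfsg.Agent.Omega.ML.Final Cfsg.Agent.Omega.NO3S.EMany.Low
open Cfsg.Agent.Omega.KL.Star.Core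
open Cfsg.Agent.MinSimple.VModule (o2_isPGroup o2_le le_o2 le_normalizer_o2 o2_le_of_sylow oddGen oddGen_le oddGen_def)
open Cfsg.Agent.MinSimple.MinParabolic (IsMinPar le_of_forall)

universe u v

/-- **The input of THEOREM KL*** -/
structure Inp {H : Type u} [Group H] {M : Type v} [Group M] [MulDistribMulAction H M] (T A : Subgroup H)
    (Y : Subgroup M) (x : M) : Prop where
  sq : ∀ m : M, m * m = 1
  two : IsPGroup 2 T
  syl : ¬ 2 ∣ T.index
  /-- `N_H(T)` fixes `x` -/
  nx : ∀ g ∈ normalizer (T : Set H), g • x = x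
  TY : ∀ t ∈ T, ∀ w ∈ Y, t • w ∈ Y
  /-- the elements of odd order of a `T`-minimal `P` which moves `x` centralise `Y` -/
  odd : ∀ P : Subgroup H, IsMinPar T P → (∃ p ∈ P, p • x ≠ x) → ∀ g ∈ P, Odd (orderOf g) → ∀ w ∈ Y, g • w = w
  el : ∀ a ∈ A, a * a = 1
  exact : (cv M (A : Set H)).index = Nat.card A
  atom : ∀ C : Subgroup H, C ≤ A → C ≠ ⊥ → C ≠ A → Nat.card C < (cv M (C : Set H)).index
  /-- `A` moves `⟨x^H⟩` -/
  nA : ¬ A ≤ fxr H (orb (⊤ : Subgroup H) x)
  Ax : A ≤ o2 (MulAction.stabilizer H x)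
  AY : A ≤ o2 (fxr H Y ⊔ T)
  KH : IsKGroup H

namespace Inp

variable {H : Type u} [Group H] [Finite H] {M : Type v} [Group M] [Finite M] [MulDistribMulAction H M]
  {T A : Subgroup H} {Y : Subgroup M} {x : M}

omit [Finite H] [Finite M] in
theorem tx (i : Inp T A Y x) : ∀ t ∈ T, t • x = x := fun t ht => i.nx t (le_normalizer ht)

omit [Finite M] in
theorem AT (i : Inp T A Y x) : A ≤ T :=
  i.Ax.trans (o2_le_of_sylow i.two fun h2 => i.syl (h2.trans (relIndex_dvd_index_of_le fun t ht => i.tx t ht)))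

omit [Finite M] in
/-- `A ≰ O₂(H)` -/
theorem nT (i : Inp T A Y x) : ¬ A ≤ o2 (⊤ : Subgroup H) := by
  intro hc
  apply i.nA
  intro a ha
  rw [mem_fxr_orb]
  intro g _
  have h1 : g⁻¹ * a * g ∈ o2 (⊤ : Subgroup H) := by
    have := (mem_normalizer_iff.1 (le_normalizer_o2 (⊤ : Subgroup H) (mem_top g⁻¹)) a).1 (hc ha)
    rwa [inv_inv] at this
  have hT : o2 (⊤ : Subgroup H) ≤ T := o2_le_of_sylow i.two (by rw [relIndex_top_right]; exact i.syl)
  have h2 := i.tx _ (hT h1)
  rwa [mul_smul, mul_smul, inv_smul_eq_iff] at h2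

/-- **THEOREM KL*.** -/
theorem exists_sysE (i : Inp T A Y x) (hM : MLK.{u, v}) :
    ∃ (H' : Type u) (_ : Group H') (_ : Finite H') (N : Type v) (_ : Group N) (_ : Finite N)
      (_ : MulDistribMulAction H' N) (T' A' : Subgroup H') (x' y' : N), SysE T' A' x' y' := by
  -- `L` minimal
  obtain ⟨L, ⟨hTL, hAL⟩, hmin⟩ : ∃ L : Subgroup H, (T ≤ L ∧ ¬ A ≤ o2 L) ∧
      ∀ R : Subgroup H, (T ≤ R ∧ ¬ A ≤ o2 R) → R ≤ L → R = L := by
    have hfin : {L : Subgroup H | T ≤ L ∧ ¬ A ≤ o2 L}.Finite := Set.toFinite _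
    obtain ⟨B, hB⟩ := hfin.exists_minimal ⟨⊤, le_top, i.nT⟩
    exact ⟨B, hB.1, fun C hC hCB => le_antisymm hCB (hB.2 hC hCB)⟩
  have hAT := i.AT
  have hAL' : A ≤ L := hAT.trans hTL
  have e1 : ∀ {C : Subgroup H}, C ≤ L → (C.subgroupOf L).map L.subtype = C := fun {C} hC => by
    rw [subgroupOf_map_subtype, inf_eq_left.2 hC]
  have hcv : ∀ C : Subgroup L, cv M (C : Set L) = cv M ((C.map L.subtype : Subgroup H) : Set H) := by
    intro C
    ext m
    constructor
    · rintro hm _ ⟨c, hc, rfl⟩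
      exact hm c hc
    · exact fun hm c hc => hm _ ⟨c, hc, rfl⟩
  have hcard : ∀ C : Subgroup L, Nat.card (C.map L.subtype) = Nat.card C := fun C =>
    card_map_of_injective L.subtype_injective
  have hlb : LB L M (T.subgroupOf L) (A.subgroupOf L) := by
    refine ⟨i.sq, i.two.comap_subtype, fun h2 => ?_, fun x hx => hAT hx, fun b hb => Subtype.ext (i.el b hb), ?_, ?_, ?_, ?_,
      sec_KG.sub H i.KH L⟩
    · exact i.syl (h2.trans (relIndex_dvd_index_of_le hTL))
    · rw [hcv, e1 hAL', i.exact, ← hcard, e1 hAL']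
    · intro C hC hC1 hCF
      rw [hcv, ← hcard]
      refine i.atom _ ?_ ?_ ?_
      · rintro _ ⟨c, hc, rfl⟩
        exact hC hc
      · intro h1
        exact hC1 ((Subgroup.map_eq_bot_iff_of_injective _ L.subtype_injective).1 h1)
      · intro h1
        apply hCF
        rw [← h1]
        exact (comap_map_eq_self_of_injective L.subtype_injective C).symm
    · intro R hTR hR
      have h1 : R.map L.subtype ≠ L := by
        intro h2
        apply hR
        rw [eq_top_iff]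
        intro r _
        have h3 : (r : H) ∈ R.map L.subtype := by
          rw [h2]
          exact r.2
        obtain ⟨s, hs, hsr⟩ := h3
        rwa [← (Subtype.ext hsr : s = r)]
      have h2 : T ≤ R.map L.subtype := fun t ht => ⟨⟨t, hTL ht⟩, hTR ht, rfl⟩
      have h3 : A ≤ o2 (R.map L.subtype) := by
        by_contra hc
        exact h1 (hmin _ ⟨h2, hc⟩ (map_subtype_le R))
      exact fun x hx => KL.GenTool.o2_subgroupOf_le R (h3 hx)
    · intro hc
      apply hAL
      have h1 := (map_mono (f := L.subtype) hc).trans (KL.GenTool.o2_map_le L.subtype ⊤)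
      rw [e1 hAL', ← MonoidHom.range_eq_map, L.range_subtype] at h1
      exact h1
  -- `L` moves `x`
  have hx : ¬ ∀ g : L, g • x = x := by
    intro hc
    apply hAL
    have h1 : L ≤ MulAction.stabilizer H x := fun g hg => hc ⟨g, hg⟩
    exact (le_inf i.Ax hAL').trans (InpG.o2_le_o2_of_le h1)
  have htx : ∀ t ∈ T.subgroupOf L, t • x = x := fun t ht => i.tx _ ht
  -- `L ≠ C_L(Y) T`
  have hY : ¬ ∀ g : L, Odd (orderOf g) → ∀ w ∈ Y, g • w = w := by
    intro hc
    apply hAL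
    have h1 : oddGen L ⊔ T = L := oddGen_sup hTL fun h2 => i.syl (h2.trans (relIndex_dvd_index_of_le hTL))
    have h2 : L ≤ fxr H Y ⊔ T := by
      rw [← h1]
      refine sup_le_sup_right ?_ T
      rw [oddGen_def, closure_le]
      rintro g ⟨hgL, hgo⟩ w hw
      exact hc ⟨g, hgL⟩ (by rwa [orderOf_mk]) w hw
    exact (le_inf i.AY hAL').trans (InpG.o2_le_o2_of_le h2)
  have hTY : ∀ t ∈ T.subgroupOf L, ∀ w ∈ Y, t • w ∈ Y := fun t ht w hw => i.TY t ht w hw
  obtain ⟨N, i1, i2, i3, A', x', u', c⟩ := core hlb hM htx hx hTY hY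
  -- `N_L(T)` fixes `x`
  have hNx : ∀ g ∈ normalizer ((T.subgroupOf L : Subgroup L) : Set L), g • x = x := by
    intro g hg
    refine i.nx g ?_
    rw [mem_normalizer_iff] at hg ⊢
    intro t
    constructor
    · intro ht
      exact (hg ⟨t, hTL ht⟩).1 ht
    · intro ht
      have h1 : t ∈ L := by
        have h2 := L.mul_mem (L.mul_mem (L.inv_mem g.2) (hTL ht)) g.2
        have e : (g : H)⁻¹ * (g * t * (g : H)⁻¹) * g = t := by group
        rwa [e] at h2
      exact (hg ⟨t, h1⟩).2 ht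
  have hNx' : ∀ g ∈ normalizer ((T.subgroupOf L : Subgroup L) : Set L), g • x' = x' :=
    (c.sx _ le_normalizer).2 hNx
  -- minimal parabolics moving `x`
  have hP : ∀ P : Subgroup L, IsMinPar (T.subgroupOf L) P → (∃ p ∈ P, p • x' ≠ x') → ∀ p ∈ P, p • u' = u' := by
    intro P hP hPx
    have h1 : ∃ p ∈ P.map L.subtype, p • x ≠ x := by
      by_contra hc
      push Not at hc
      obtain ⟨p, hp, hpx⟩ := hPx
      exact hpx ((c.sx P hP.le).2 (fun g hg => hc _ ⟨g, hg, rfl⟩) p hp)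
    have h2 := i.odd _ (KL.GenTool.minPar_map_subtype hTL hP) h1
    have h3 : oddGen P ⊔ T.subgroupOf L = P := oddGen_sup hP.le
      fun h2 => hlb.syl (h2.trans (relIndex_dvd_index_of_le hP.le))
    have h4 : P ≤ MulAction.stabilizer L u' := by
      rw [← h3]
      refine sup_le ?_ fun t ht => c.tu t ht
      rw [oddGen_def, closure_le]
      rintro g ⟨hgP, hgo⟩
      refine c.su g hgo fun w hw => h2 _ ⟨g, hgP, rfl⟩ ?_ w hw
      rwa [Subgroup.coe_subtype, orderOf_coe]
    exact fun p hp => h4 hp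
  -- a mover of `x'`
  obtain ⟨P, hPm, hPx⟩ : ∃ P : Subgroup L, IsMinPar (T.subgroupOf L) P ∧ ¬ P ≤ MulAction.stabilizer L x' := by
    by_contra hc
    push Not at hc
    have h1 : (⊤ : Subgroup L) ≤ MulAction.stabilizer L x' :=
      le_of_forall le_top (fun g hg => hNx' g hg.2) fun P hP _ => hc P hP
    exact c.mx fun g => h1 (mem_top g)
  obtain ⟨p, hp, hpx⟩ := SetLike.not_le_iff_exists.1 hPx
  have hPx' : ∃ p ∈ P, p • x' ≠ x' := ⟨p, hp, hpx⟩
  obtain ⟨H', j1, j2, N', j3, j4, j5, π, f, B, x'', y'', -, hs⟩ := c.lb.exists_sysE hM c.tx c.tu c.mu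
    ⟨P, hPm, hPx', hP P hPm hPx'⟩ ⟨x', c.mx, hNx'⟩ fun R hR => by
      by_cases h1 : ∃ p ∈ R, p • x' ≠ x'
      · exact ⟨u', c.mu, hP R hR h1⟩
      · push Not at h1
        exact ⟨x', c.mx, h1⟩
  exact ⟨H', j1, j2, N', j3, j4, j5, _, B, x'', y'', hs⟩

end Inp

namespace Inp

variable {H : Type u} [Group H] [Finite H] {M : Type v} [Group M] [Finite M] [MulDistribMulAction H M]
  {T A : Subgroup H} {Y : Subgroup M} {x : M}

/-- **THEOREM KL***, with the output `Two.SysT` -/
theorem exists_sysT (i : Inp T A Y x) (hM : MLK.{u, v}) :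
    ∃ (H' : Type u) (_ : Group H') (_ : Finite H') (N : Type v) (_ : Group N) (_ : Finite N)
      (_ : MulDistribMulAction H' N) (T' A' : Subgroup H') (x' y' : N), ML.Ex.Two.SysT H' N T' A' x' y' := by
  obtain ⟨H', j1, j2, N', j3, j4, j5, T', B, x', y', h⟩ := i.exists_sysE hM
  exact ⟨H', j1, j2, N', j3, j4, j5, T', B, x', y', h.sysT⟩

open ML.Ex.Two in
/-- **THEOREM KL***, with EXT -/
theorem false_of (hM : MLK.{u, v}) (h1 : RedT.{u, v}) (h2 : ExitN.{u, v}) (h3 : LieT.{u, v}) (h4 : UThreeT.{u, v})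
    (i : Inp T A Y x) : False := by
  obtain ⟨H', j1, j2, N', j3, j4, j5, T', B, x', y', h⟩ := i.exists_sysT hM
  exact h.false_of h1 h2 h3 h4

end Inp

end Cfsg.Agent.Omega.KL.Star.Main
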