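import Cfsg.Agent.Omega.KL.Star.Fam

/-!
# KL* with an object which is only normalised (bb #24309 (6), helper513)

`s : Sec H M B N f` the section `N = U¹ / U₀` of the machine `LB H M T B`; `Y ≤ M` invariant under `T`;
`img f Y` = the image of `Y ∩ U¹` in `N`.

* `img_inv` : an element which normalises `Y` normalises `img f Y`;
* `exists_shift` : a `T`-fixed `m` moved by `H` gives `m' ∈ N` with the same stabilisers over `T`, and if `m' ∈ img f Y`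
  then `m b` is centralised by `⟨B^H⟩` for some `b ∈ Y`;
* `exists_img` : if `img f Y ≠ 1` : a `T`-fixed `u' ≠ 1` in `img f Y`;
* **`exists_trace`** : if `img f Y = 1` : a `T`-fixed `u' ≠ 1` which is fixed by every element of odd order which
  NORMALISES `Y`.
-/

set_option autoImplicit false

namespace Cfsg.Agent.Omega.KL.Star.Nrm

open Subgroup Cfsg Cfsg.Agent.ZN Cfsg.Agent.ClassTwoFusion.Quad
open Cfsg.Agent.Omega.ML.MinFrame hiding comm_of_sq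
open Cfsg.Agent.Omega.ML.Final Cfsg.Agent.Omega.NO3S.EMany.Low
open Cfsg.Agent.Omega.KL.Star.Core
open Cfsg.Agent.MinSimple.VModule (o2_isPGroup o2_le le_o2 le_normalizer_o2 o2_le_of_sylow oddGen oddGen_le oddGen_def)
open Cfsg.Agent.MinSimple.MinParabolic (IsMinPar le_of_forall)

universe u v w

section

variable {H : Type u} [Group H] {M : Type v} [Group M] [MulDistribMulAction H M] {T B : Subgroup H}
  {N : Type v} [Group N] [MulDistribMulAction H N] {f : ↥(cmm M B) →* N}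

/-- the image of `Y ∩ U¹` in `N` -/
def img (f : ↥(cmm M B) →* N) (Y : Subgroup M) : Subgroup N := (Y.subgroupOf (cmm M B)).map f

theorem mem_img {Y : Subgroup M} {n : N} : n ∈ img f Y ↔ ∃ y, ∃ hy : y ∈ cmm M B, y ∈ Y ∧ f ⟨y, hy⟩ = n := by
  constructor
  · rintro ⟨w, hw, rfl⟩
    exact ⟨w, w.2, hw, rfl⟩
  · rintro ⟨y, hy, hyY, rfl⟩
    exact ⟨⟨y, hy⟩, hyY, rfl⟩

theorem img_inv (s : Sec H M B N f) {Y : Subgroup M} {g : H} (hg : ∀ w ∈ Y, g • w ∈ Y) :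
    ∀ n ∈ img f Y, g • n ∈ img f Y := by
  intro n hn
  obtain ⟨y, hy, hyY, rfl⟩ := mem_img.1 hn
  exact mem_img.2 ⟨g • y, smul_mem_cmm g hy, hg y hyY, s.eqv g ⟨y, hy⟩⟩

theorem img_le_one (s : Sec H M B N f) {Y : Subgroup M} (h : img f Y = ⊥) {y : M} (hy : y ∈ Y) (hyU : y ∈ cmm M B) :
    y ∈ cv M (Km B : Set H) := by
  have h1 : f ⟨y, hyU⟩ ∈ img f Y := mem_img.2 ⟨y, hyU, hy, rfl⟩
  rw [h, mem_bot, s.ker] at h1
  exact h1

variable [Finite H] [Finite M] [Finite N]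

omit [Finite N] in
/-- `T`-fixed vectors of `M` which `H` moves -/
theorem exists_shift (s : Sec H M B N f) (h : LB H M T B) {m : M} (tm : ∀ t ∈ T, t • m = m) :
    ∃ m' : N, (∀ t ∈ T, t • m' = m') ∧ (∀ R : Subgroup H, T ≤ R → ((∀ g ∈ R, g • m' = m') ↔ ∀ g ∈ R, g • m = m)) ∧
      ((¬ ∀ g : H, g • m = m) → m' ≠ 1) ∧
      ∀ Y : Subgroup M, m' ∈ img f Y → ∃ b ∈ Y, ∀ k ∈ Km B, k • (m * b) = m * b := by
  have hcomm := comm_of_sq h.sq
  obtain ⟨m0, h0, h1⟩ := exists_fix_coset (T := T) (R := ⊤) h.sq (by rw [relIndex_top_right]; exact h.syl) tm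
    (I := cmm M B) (fun g _ => h.orb_eq tm g)
  have hst : ∀ g : H, g • (m0 * m⁻¹) = m0 * m⁻¹ ↔ g • m = m := by
    intro g
    rw [smul_mul', smul_inv', h0 g (mem_top g), mul_right_inj, inv_inj]
  have tm1 : ∀ t ∈ T, t • (m0 * m⁻¹) = m0 * m⁻¹ := fun t ht => (hst t).2 (tm t ht)
  refine ⟨f ⟨m0 * m⁻¹, h1⟩, fun t ht => s.tfix (tm1 t ht), fun R hTR => ?_, fun hm => ?_, fun Y hY => ?_⟩
  · rw [s.fix_iff h (u := ⟨m0 * m⁻¹, h1⟩) tm1 hTR]
    exact ⟨fun h2 g hg => (hst g).1 (h2 g hg), fun h2 g hg => (hst g).2 (h2 g hg)⟩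
  · exact (s.ne_one_iff h (u := ⟨m0 * m⁻¹, h1⟩) tm1).2 fun hc => hm fun g => (hst g).1 (hc g)
  · obtain ⟨y, hy, hyY, hfy⟩ := mem_img.1 hY
    refine ⟨y, hyY, fun k hk => ?_⟩
    have h2 : f (⟨m0 * m⁻¹, h1⟩ * ⟨y, hy⟩) = 1 := by
      rw [map_mul, hfy]
      exact s.sqN h _
    rw [s.ker] at h2
    have h3 : k • (m0 * m⁻¹ * y) = m0 * m⁻¹ * y := h2 k hk
    have hm1 : m⁻¹ = m := inv_eq_of_mul_eq_one_right (h.sq m)
    rw [hm1, mul_assoc, smul_mul', h0 k (mem_top k)] at h3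
    exact mul_left_cancel h3

omit [Finite M] [Finite N] in
/-- a `T`-fixed vector `≠ 1` in `img f Y` -/
theorem exists_img [Finite N] (s : Sec H M B N f) (h : LB H M T B) {Y : Subgroup M} (TY : ∀ t ∈ T, ∀ w ∈ Y, t • w ∈ Y)
    (hne : img f Y ≠ ⊥) : ∃ u' ∈ img f Y, u' ≠ 1 ∧ ∀ t ∈ T, t • u' = u' :=
  exists_fix (s.sqN h) h.two (fun t ht => img_inv s (TY t ht)) hne

/-- **the trace vector** -/
theorem exists_trace (s : Sec H M B N f) (h : LB H M T B) {Y : Subgroup M} (TY : ∀ t ∈ T, ∀ w ∈ Y, t • w ∈ Y)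
    (hY : ¬ ∀ g : H, Odd (orderOf g) → ∀ w ∈ Y, g • w = w) (h0 : img f Y = ⊥) :
    ∃ u' : N, u' ≠ 1 ∧ (∀ t ∈ T, t • u' = u') ∧
      ∀ g : H, Odd (orderOf g) → (∀ w ∈ Y, g • w ∈ Y) → g • u' = u' := by
  obtain ⟨u, ⟨hu1, hu2⟩, hu3⟩ := exists_vec h TY hY
  let E : Subgroup N := ((Y ⊔ wz M B h.sq).subgroupOf (cmm M B)).map f
  have hYW : ∀ t ∈ T, ∀ w ∈ Y ⊔ wz M B h.sq, t • w ∈ Y ⊔ wz M B h.sq := by
    intro t ht w hw
    have hn : (wz M B h.sq).Normal := normal_of_sq h.sq _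
    obtain ⟨y, hy, w0, hw0, rfl⟩ := mem_sup_of_normal_right.1 hw
    rw [smul_mul']
    exact mul_mem (le_sup_left (a := Y) (TY t ht y hy)) (le_sup_right (a := Y) (smul_mem_wz t hw0))
  have hE : ∀ t ∈ T, ∀ w ∈ E, t • w ∈ E := by
    rintro t ht _ ⟨w, hw, rfl⟩
    refine ⟨⟨t • (w : M), smul_mem_cmm t w.2⟩, hYW t ht _ hw, ?_⟩
    exact s.eqv t w
  have hE1 : E ≠ ⊥ := by
    intro h1
    have h2 : f ⟨u, hu2⟩ ∈ E := ⟨⟨u, hu2⟩, hu1, rfl⟩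
    rw [h1, mem_bot, s.ker] at h2
    exact hu3 h2
  obtain ⟨u', hu', hu'1, tu'⟩ := exists_fix (s.sqN h) h.two hE hE1
  refine ⟨u', hu'1, tu', fun g hg hgY => ?_⟩
  obtain ⟨w, hw, rfl⟩ := hu'
  rw [s.smul_eq_iff]
  have hgK : g ∈ Km B := mem_of_odd h.two h.gen hg
  have hn : (wz M B h.sq).Normal := normal_of_sq h.sq _
  have hw' : (w : M) ∈ Y ⊔ wz M B h.sq := hw
  obtain ⟨y, hy, w0, hw0, hyw⟩ := mem_sup_of_normal_right.1 hw'
  rw [← hyw]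
  have hcomm := comm_of_sq h.sq
  have e : g • (y * w0) * (y * w0)⁻¹ = ((g • y) * y⁻¹) * ((g • w0) * w0⁻¹) := by
    rw [smul_mul', mul_inv_rev, hcomm w0⁻¹ y⁻¹]
    calc g • y * g • w0 * (y⁻¹ * w0⁻¹) = g • y * (g • w0 * y⁻¹) * w0⁻¹ := by group
      _ = g • y * (y⁻¹ * g • w0) * w0⁻¹ := by rw [hcomm (g • w0) y⁻¹]
      _ = _ := by group
  rw [e]
  refine mul_mem ?_ (hw0 g hgK)
  exact img_le_one s h0 (mul_mem (hgY y hy) (inv_mem hy)) (mem_cmm hgK y)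

end

end Cfsg.Agent.Omega.KL.Star.Nrm
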