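import Cfsg.Agent.Omega.NO3S.EMany.LowExt
import Cfsg.Agent.Omega.KL.Star.Nrm

/-!
# The machine with a weak uniqueness: `LB ⟹ SysV` (bb #23705 (b), #23876 (I), #24309 (6))

* `SysV H M T A x y` : the fields of helper585's `SysT` without `odd`;
* `SysV.sysT` : with `O(H) = 1` it is `SysT`;
* **`exists_sysV`** : `Out` and `SysV` from `LB H M T B`, two `T`-fixed vectors `x, y` of `M`, **any** overgroup of `T`
  which fixes `y` and moves `x`, and: **`H` itself is not `T`-minimal** (in particular other `T`-minimal `P` may move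
  both `x` and `y`);
* `not_isMinPar` : `H` is not `T`-minimal if the `T`-minimal `P` with `B ≰ O₂(P)` fix a vector which `H` moves.
-/

set_option autoImplicit false

namespace Cfsg.Agent.Omega.KL.Star.Mix

open Subgroup Cfsg Cfsg.Agent.ZN Cfsg.Agent.ClassTwoFusion.Quad Cfsg.Agent.Omega.ML.MinFrame
open Cfsg.Agent.Omega.ML.Final Cfsg.Agent.Omega.NO3S.EMany.Low
open Cfsg.Agent.MinSimple.VModule (o2_isPGroup o2_le le_o2 le_normalizer_o2 o2_le_of_sylow)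
open Cfsg.Agent.MinSimple.MinParabolic (IsMinPar le_of_forall)
open Cfsg.Agent.Omega.ML.Ex.Two (SysT Mv RedT ExitN LieT UThreeT)

universe u v

/-- **the fields of `SysT` without `odd`** -/
structure SysV (H : Type u) [Group H] (M : Type v) [Group M] [MulDistribMulAction H M] (T A : Subgroup H)
    (x y : M) : Prop extends Mv T x y where
  sq : ∀ m : M, m * m = 1
  faith : ∀ h : H, (∀ m : M, h • m = m) → h = 1
  irr : ∀ W : Subgroup M, (∀ h : H, ∀ w ∈ W, h • w ∈ W) → W = ⊥ ∨ W = ⊤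
  two : IsPGroup 2 T
  syl : ¬ 2 ∣ T.index
  AT : A ≤ T
  el : ∀ a ∈ A, a * a = 1
  four : 4 ≤ Nat.card A
  exact : (cv M (A : Set H)).index = Nat.card A
  atom : ∀ C : Subgroup H, C ≤ A → C ≠ ⊥ → C ≠ A → Nat.card C < (cv M (C : Set H)).index
  low : ∀ R : Subgroup H, T ≤ R → R ≠ ⊤ → A ≤ o2 R
  nmax : ¬ ∃ N : Subgroup H, N ≠ ⊤ ∧ ∀ R : Subgroup H, T ≤ R → R ≠ ⊤ → R ≤ N
  KH : IsKGroup H

/-- with `O(H) = 1` -/
theorem SysV.sysT {H : Type u} [Group H] {M : Type v} [Group M] [MulDistribMulAction H M] {T A : Subgroup H}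
    {x y : M} (s : SysV H M T A x y) (ho : ∀ N : Subgroup H, N.Normal → Odd (Nat.card N) → N = ⊥) :
    SysT H M T A x y where
  toMv := s.toMv
  sq := s.sq
  faith := s.faith
  irr := s.irr
  two := s.two
  syl := s.syl
  AT := s.AT
  el := s.el
  four := s.four
  exact := s.exact
  atom := s.atom
  low := s.low
  nmax := s.nmax
  odd := ho
  KH := s.KH

section

variable {H : Type u} [Group H] [Finite H] {M : Type v} [Group M] [Finite M] [MulDistribMulAction H M]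
  {T B : Subgroup H}

/-- **`SysV` from `LB`** and vectors of `U¹ = [M, ⟨B^H⟩]` -/
theorem exists_sysV₀ (h : LB H M T B) (hM : MLK.{u, v}) {x y : M} (tx : ∀ t ∈ T, t • x = x)
    (ty : ∀ t ∈ T, t • y = y) (hxU : x ∈ cmm M B) (hyU : y ∈ cmm M B) (hy : ¬ ∀ g : H, g • y = y)
    (mov : ∃ R : Subgroup H, T ≤ R ∧ (∃ p ∈ R, p • x ≠ x) ∧ ∀ p ∈ R, p • y = y)
    (nm : ¬ IsMinPar T (⊤ : Subgroup H)) :
    ∃ (H' : Type u) (_ : Group H') (_ : Finite H') (N : Type v) (_ : Group N) (_ : Finite N)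
      (_ : MulDistribMulAction H' N) (π : H →* H') (f : ↥(cmm M B) →* N) (A' : Subgroup H'),
      Out H M T B H' N π f A' ∧ SysV H' N (T.map π) A' (f ⟨x, hxU⟩) (f ⟨y, hyU⟩) := by
  have hx : ¬ ∀ g : H, g • x = x := by
    obtain ⟨R, -, ⟨p, -, hp⟩, -⟩ := mov
    exact fun hc => hp (hc p)
  obtain ⟨H', _, _, N, _, _, _, π, f, A', o⟩ := h.exists_out hM tx hx hxU
  refine ⟨H', inferInstance, inferInstance, N, inferInstance, inferInstance, inferInstance, π, f, A', o, ?_⟩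
  -- images of vectors
  have him : ∀ {m : M} (hm : m ∈ cmm M B) {g : H}, g • m = m → π g • f ⟨m, hm⟩ = f ⟨m, hm⟩ := by
    intro m hm g hg
    rw [← o.eqv g ⟨m, hm⟩]
    exact congrArg f (Subtype.ext hg)
  have hne : ∀ {m : M} (hm : m ∈ cmm M B), (∀ t ∈ T, t • m = m) → (¬ ∀ g : H, g • m = m) → f ⟨m, hm⟩ ≠ 1 := by
    intro m hm tm hc h1
    exact hc fun g => h.fix_of_cvKm tm ((o.ker _).1 h1) g
  have hback : ∀ {m : M} (hm : m ∈ cmm M B), (∀ t ∈ T, t • m = m) → ∀ R : Subgroup H, T ≤ R →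
      (∀ g ∈ R, π g • f ⟨m, hm⟩ = f ⟨m, hm⟩) → ∀ g ∈ R, g • m = m := by
    intro m hm tm R hTR hR
    refine h.fix_of_mod tm hTR (I := cv M (Km B : Set H)) (fun w hw tw g _ => h.fix_of_cvKm tw hw g) fun g hg => ?_
    have h1 := hR g hg
    rw [← o.eqv g ⟨m, hm⟩, ← mul_inv_eq_one, ← map_inv, ← map_mul, o.ker] at h1
    exact h1
  have x1 := hne hxU tx hx
  have y1 := hne hyU ty hy
  have htx : ∀ t ∈ T.map π, t • f ⟨x, hxU⟩ = f ⟨x, hxU⟩ := by
    rintro _ ⟨t, ht, rfl⟩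
    exact him hxU (tx t ht)
  have hty : ∀ t ∈ T.map π, t • f ⟨y, hyU⟩ = f ⟨y, hyU⟩ := by
    rintro _ ⟨t, ht, rfl⟩
    exact him hyU (ty t ht)
  have hmov : ∃ R' : Subgroup H', T.map π ≤ R' ∧ (∀ p ∈ R', p • f ⟨y, hyU⟩ = f ⟨y, hyU⟩) ∧
      ∃ p ∈ R', p • f ⟨x, hxU⟩ ≠ f ⟨x, hxU⟩ := by
    obtain ⟨R, hTR, ⟨p, hp, hpx⟩, hRy⟩ := mov
    refine ⟨R.map π, map_mono hTR, ?_, ?_⟩
    · rintro _ ⟨q, hq, rfl⟩
      exact him hyU (hRy q hq)
    · by_contra hc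
      push Not at hc
      exact hpx (hback hxU tx R hTR (fun g hg => hc _ ⟨g, hg, rfl⟩) p hp)
  have hxy : f ⟨x, hxU⟩ ≠ f ⟨y, hyU⟩ := by
    intro he
    obtain ⟨R, -, hRy, p, hp, hpx⟩ := hmov
    rw [he] at hpx
    exact hpx (hRy p hp)
  refine ⟨⟨x1, y1, htx, hty, hmov⟩, o.lb.sq, o.faith, o.irr, o.lb.two, o.lb.syl, o.lb.BT, o.lb.el,
    four_le o.lb.sq o.faith o.irr o.lb htx hty x1 y1 hxy, o.lb.exact, o.lb.atom, o.lb.low, ?_, o.lb.KH⟩
  rintro ⟨L, hL, hLm⟩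
  by_cases hn : (⊤ : Subgroup H') ≤ normalizer ((T.map π : Subgroup H') : Set H')
  · exact o.lb.nb (o.lb.BT.trans (le_o2 le_top o.lb.two hn))
  · obtain ⟨P, hP, hPt⟩ := KL.GenTool.exists_minPar_map π o.πs
      (⟨le_top, hn, L, lt_top_iff_ne_top.2 hL, fun K hK hlt => hLm K hK hlt.ne⟩ : IsMinPar (T.map π) ⊤)
    have h1 : P ≠ ⊤ := fun h1 => nm (h1 ▸ hP)
    apply o.lb.nb
    have h2 := (o.AB.trans (map_mono (h.low P hP.le h1))).trans (KL.GenTool.o2_map_le π P)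
    rwa [hPt] at h2

omit [Finite M] in
/-- `H` is not `T`-minimal if the `T`-minimal `P` with `B ≰ O₂(P)` fix a vector which `H` moves -/
theorem not_isMinPar (h : LB H M T B)
    (nP : ∀ P : Subgroup H, IsMinPar T P → B ≤ o2 P ∨ ∃ m : M, (¬ ∀ g : H, g • m = m) ∧ ∀ p ∈ P, p • m = m) :
    ¬ IsMinPar T (⊤ : Subgroup H) := by
  intro hP
  rcases nP ⊤ hP with h1 | ⟨m, hm, hPm⟩
  · exact h.nb h1
  · exact hm fun g => hPm g (mem_top g)

/-- **`SysV` from `LB`**: `x, y` fixed by `T`, some overgroup of `T` fixes `y` and moves `x`; `H` is not `T`-minimal -/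
theorem exists_sysV (h : LB H M T B) (hM : MLK.{u, v}) {x y : M} (tx : ∀ t ∈ T, t • x = x)
    (ty : ∀ t ∈ T, t • y = y) (hy : ¬ ∀ g : H, g • y = y)
    (mov : ∃ R : Subgroup H, T ≤ R ∧ (∃ p ∈ R, p • x ≠ x) ∧ ∀ p ∈ R, p • y = y)
    (nm : ¬ IsMinPar T (⊤ : Subgroup H)) :
    ∃ (H' : Type u) (_ : Group H') (_ : Finite H') (N : Type v) (_ : Group N) (_ : Finite N)
      (_ : MulDistribMulAction H' N) (π : H →* H') (f : ↥(cmm M B) →* N) (A' : Subgroup H') (x' y' : N),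
      Out H M T B H' N π f A' ∧ SysV H' N (T.map π) A' x' y' := by
  obtain ⟨x', hxU, hx'⟩ := h.shift tx
  obtain ⟨y', hyU, hy'⟩ := h.shift ty
  obtain ⟨R, hR, ⟨p, hp, hpx⟩, hRy⟩ := mov
  obtain ⟨H', i1, i2, N, i3, i4, i5, π, f, A', o, hs⟩ := exists_sysV₀ h hM (x := x') (y := y')
    (fun t ht => (hx' t).2 (tx t ht)) (fun t ht => (hy' t).2 (ty t ht)) hxU hyU
    (fun hc => hy fun g => (hy' g).1 (hc g)) ⟨R, hR, ⟨p, hp, fun hc => hpx ((hx' p).1 hc)⟩, fun q hq => (hy' q).2 (hRy q hq)⟩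
    nm
  exact ⟨H', i1, i2, N, i3, i4, i5, π, f, A', _, _, o, hs⟩

end

end Cfsg.Agent.Omega.KL.Star.Mix
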