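import Cfsg.Agent.Omega.NO3b.EndX.AbsP
import Cfsg.Agent.Omega.NO3b.Closed.Trace
import Cfsg.Agent.Omega.NO3b.Closed.Point
import Cfsg.Agent.Omega.ML.Ex.Two

/-!
# `B^ ∩ N^ ≠ 1` in #24309 (6)(B)(i) and in KL** (#24722) by `RedP` (helper861)

`Sit T F Y z u` : `H` faithful and irreducible on the elementary abelian 2-group `M`, `T` a Sylow 2-subgroup in at least
two maximal subgroups, `1 ≠ F ≤ T` elementary abelian, exact (`|M : C_M(F)| = |F|`) and low; `Y ≤ M` is normalised by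
`N_H(T)`, every `T`-minimal `P` fixes `z` or normalises `Y`; `u ∈ Y`, `z ∉ Y` are `T`-fixed, `u ≠ 1`.

* `trace_mod` : the trace lemma for modules;
* **`Sit.exists_mv`** : (`RedP`, `O(H) = 1`) some overgroup of `T` fixes a `T`-fixed `w ≠ 1` and moves another
  `T`-fixed vector.
-/

set_option autoImplicit false

namespace Cfsg.Agent.Omega.KL.Star.ViaRed

open Subgroup Cfsg Cfsg.Agent.ZN Cfsg.Agent.ClassTwoFusion.Quad Cfsg.Agent.Omega.ML.MinFrame
open Cfsg.Agent.Omega.NO3b.EndX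
open Cfsg.Agent.MinSimple.VModule (oddGen oddGen_le oddGen_mono le_normalizer_oddGen)
open Cfsg.Agent.MinSimple.MinParabolic (IsMinPar le_of_forall)
open Cfsg.Agent.Omega.ML.Ex.Two (Mv)

universe u v

section mod

variable {H : Type u} [Group H] {M : Type v} [Group M] [MulDistribMulAction H M]

/-- **the trace lemma for modules** -/
theorem trace_mod [Finite H] [Finite M] (sq : ∀ m : M, m * m = 1) {V : Subgroup M} {X T : Subgroup H}
    (hXV : ∀ x ∈ X, ∀ v ∈ V, x • v ∈ V) (hT : IsPGroup 2 T) (hTV : ∀ t ∈ T, ∀ v ∈ V, t • v ∈ V)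
    (hTX : T ≤ normalizer (X : Set H)) (hodd : ¬ 2 ∣ (T ⊓ X).relIndex X)
    (hfix : ∀ v ∈ V, (∀ t ∈ T, t • v = v) → ∀ x ∈ X, x • v = v) :
    ∀ v ∈ V, (∀ t ∈ T ⊓ X, t • v = v) → ∀ x ∈ X, x • v = v := by
  let φ : H →* MulAut M := MulDistribMulAction.toMulAut H M
  let inl : M →* M ⋊[φ] H := SemidirectProduct.inl
  let inr : H →* M ⋊[φ] H := SemidirectProduct.inr
  have : Finite (M ⋊[φ] H) := Finite.of_injective (fun g => ((g.left, g.right) : M × H)) (by
    intro a b hab
    exact SemidirectProduct.ext (congrArg Prod.fst hab) (congrArg Prod.snd hab))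
  have key : ∀ (h : H) (m : M), inr h * inl m * (inr h)⁻¹ = inl (h • m) := fun h m => by
    have h1 := SemidirectProduct.inl_aut (φ := φ) h m
    rw [map_inv] at h1
    exact h1.symm
  have iff1 : ∀ (h : H) (m : M), inr h * inl m = inl m * inr h ↔ h • m = m := by
    intro h m
    rw [← mul_inv_eq_iff_eq_mul, key]
    exact SemidirectProduct.inl_injective.eq_iff
  have hcomm : ∀ a b : M, a * b = b * a := fun a b => by
    have h1 := sq (a * b)
    have h2 : ∀ x : M, x⁻¹ = x := fun x => inv_eq_of_mul_eq_one_right (sq x)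
    calc a * b = (a * b)⁻¹ := (h2 _).symm
      _ = b⁻¹ * a⁻¹ := mul_inv_rev a b
      _ = b * a := by rw [h2, h2]
  have hnorm : ∀ A : Subgroup H, (∀ a ∈ A, ∀ v ∈ V, a • v ∈ V) →
      A.map inr ≤ normalizer ((V.map inl : Subgroup (M ⋊[φ] H)) : Set (M ⋊[φ] H)) := by
    intro A hA
    refine NO3b.ClosedPt.norm_of ?_
    rintro _ ⟨a, ha, rfl⟩ _ ⟨v, hv, rfl⟩
    rw [key]
    exact ⟨a • v, hA a ha v hv, rfl⟩
  have h0 := NO3b.ClosedPt.trace (W := V.map inl) (X := X.map inr) (T := T.map inr)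
    (by
      rintro _ ⟨a, -, rfl⟩ _ ⟨b, -, rfl⟩
      rw [← map_mul, ← map_mul, hcomm])
    (by
      rintro _ ⟨a, -, rfl⟩
      rw [← map_mul, sq, map_one])
    (hnorm X hXV) (hT.map inr) (hnorm T hTV)
    (by
      refine NO3b.ClosedPt.norm_of ?_
      rintro _ ⟨t, ht, rfl⟩ _ ⟨x, hx, rfl⟩
      exact ⟨t * x * t⁻¹, (mem_normalizer_iff.1 (hTX ht) x).1 hx, by rw [map_mul, map_mul, map_inv]⟩)
    (by
      rw [← Subgroup.map_inf _ _ _ SemidirectProduct.inr_injective,
        relIndex_map_map_of_injective _ _ SemidirectProduct.inr_injective]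
      exact hodd)
    (by
      rintro _ ⟨v, hv, rfl⟩ hf _ ⟨x, hx, rfl⟩
      exact (iff1 x v).2 (hfix v hv (fun t ht => (iff1 t v).1 (hf _ ⟨t, ht, rfl⟩)) x hx))
  intro v hv hf x hx
  refine (iff1 x v).1 (h0 _ ⟨v, hv, rfl⟩ ?_ _ ⟨x, hx, rfl⟩)
  intro t ht
  rw [← Subgroup.map_inf _ _ _ SemidirectProduct.inr_injective] at ht
  obtain ⟨t, ht, rfl⟩ := ht
  exact (iff1 t v).2 (hf t ht)

/-- the setwise stabiliser -/
def nst (H : Type u) [Group H] [MulDistribMulAction H M] (W : Subgroup M) : Subgroup H where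
  carrier := {h | ∀ w : M, h • w ∈ W ↔ w ∈ W}
  one_mem' := fun w => by rw [one_smul]
  mul_mem' := fun {a b} ha hb w => by rw [mul_smul]; exact (ha _).trans (hb w)
  inv_mem' := fun {a} ha w => by
    have := ha (a⁻¹ • w)
    rw [smul_inv_smul] at this
    exact this.symm

theorem mem_nst [Finite M] {W : Subgroup M} {h : H} (hw : ∀ w ∈ W, h • w ∈ W) : h ∈ nst H W := by
  intro w
  refine ⟨fun h1 => ?_, hw w⟩
  have h2 : Function.Injective (fun w : W => (⟨h • (w : M), hw w w.2⟩ : W)) := fun a b hab => by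
    have := congrArg Subtype.val hab
    exact Subtype.ext (smul_left_cancel h this)
  obtain ⟨w', hw'⟩ := (Finite.injective_iff_surjective.1 h2) ⟨h • w, h1⟩
  have h3 : h • (w' : M) = h • w := congrArg Subtype.val hw'
  rw [← smul_left_cancel h h3]
  exact w'.2

theorem nst_mem {W : Subgroup M} {h : H} (hh : h ∈ nst H W) {w : M} (hw : w ∈ W) : h • w ∈ W := (hh w).2 hw

end mod

/-- the situation -/
structure Sit {H : Type u} [Group H] {M : Type v} [Group M] [MulDistribMulAction H M] (T F : Subgroup H)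
    (Y : Subgroup M) (z u : M) : Prop where
  sq : ∀ m : M, m * m = 1
  faith : ∀ h : H, (∀ m : M, h • m = m) → h = 1
  irr : ∀ W : Subgroup M, (∀ h : H, ∀ w ∈ W, h • w ∈ W) → W = ⊥ ∨ W = ⊤
  two : IsPGroup 2 T
  syl : ¬ 2 ∣ T.index
  FT : F ≤ T
  Fne : F ≠ ⊥
  el : ∀ b ∈ F, b * b = 1
  low : ∀ R : Subgroup H, T ≤ R → R ≠ ⊤ → F ≤ o2 R
  exact : (cv M (F : Set H)).index = Nat.card F
  nmax : ¬ Nmax T
  NY : ∀ g ∈ normalizer (T : Set H), ∀ w ∈ Y, g • w ∈ Y
  par : ∀ P : Subgroup H, IsMinPar T P → (∀ p ∈ P, p • z = z) ∨ ∀ p ∈ P, ∀ w ∈ Y, p • w ∈ Y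
  tz : ∀ t ∈ T, t • z = z
  tu : ∀ t ∈ T, t • u = u
  uY : u ∈ Y
  u1 : u ≠ 1
  zY : z ∉ Y

namespace Sit

variable {H : Type u} [Group H] {M : Type v} [Group M] [MulDistribMulAction H M] {T F : Subgroup H}
  {Y : Subgroup M} {z u : M}

theorem z1 (h : Sit T F Y z u) : z ≠ 1 := fun h1 => h.zY (h1 ▸ one_mem Y)

theorem H_ne (h : Sit T F Y z u) {v : M} (hv : v ≠ 1) : MulAction.stabilizer H v ≠ ⊤ := by
  intro h1
  have h2 : cv M ((⊤ : Subgroup H) : Set H) = ⊤ := by
    rcases h.irr (cv M ((⊤ : Subgroup H) : Set H)) (fun g w hw k _ => by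
      rw [hw g (mem_top g), hw k (mem_top k)]) with h2 | h2
    · exfalso
      have h3 : v ∈ cv M ((⊤ : Subgroup H) : Set H) := fun g _ => by
        have : g ∈ MulAction.stabilizer H v := h1 ▸ mem_top g
        exact this
      rw [h2, mem_bot] at h3
      exact hv h3
    · exact h2
  apply h.Fne
  rw [eq_bot_iff]
  intro f _
  rw [mem_bot]
  exact h.faith f fun m => (h2 ▸ mem_top m : m ∈ cv M ((⊤ : Subgroup H) : Set H)) f (mem_top f)

/-- **THEOREM** -/
theorem exists_mv [Finite H] [Finite M] (hR : RedP.{u, v}) (h : Sit T F Y z u) (hK : IsKGroup H) (hO : OddFree H) :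
    ∃ x y : M, Mv T x y := by
  have : Fact (Nat.Prime 2) := ⟨Nat.prime_two⟩
  by_contra hn
  -- all non-trivial `T`-fixed vectors have the same stabiliser
  have hst : ∀ v w : M, (∀ t ∈ T, t • v = v) → (∀ t ∈ T, t • w = w) → w ≠ 1 → ∀ r : H, r • w = w → r • v = v := by
    intro v w tv tw w1 r hr
    by_cases v1 : v = 1
    · rw [v1, smul_one]
    by_contra hrv
    exact hn ⟨v, w, v1, w1, tv, tw, MulAction.stabilizer H w, fun t ht => tw t ht, fun _ hx => hx, r, hr, hrv⟩
  have hTn : (oo H).Normal := by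
    rw [← oddGen_top_eq_oo, ← normalizer_eq_top_iff, eq_top_iff]
    exact le_normalizer_oddGen ⊤
  have hT0 : T ≤ normalizer ((T ⊓ oo H : Subgroup H) : Set H) := NO3b.ClosedPt.norm_of fun t ht x hx =>
    ⟨T.mul_mem (T.mul_mem ht hx.1) (T.inv_mem ht), hTn.conj_mem x hx.2 t⟩
  -- `lam = C_M(T)`
  have hzl : z ∈ cv M (T : Set H) := h.tz
  have hul : u ∈ cv M (T : Set H) := h.tu
  have four : 4 ≤ Nat.card (cv M (T : Set H)) := by
    have h1 : zpowers u ≤ cv M (T : Set H) := by rwa [zpowers_le]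
    have h2 : Nat.card (zpowers u) = 2 := by
      rw [Nat.card_zpowers]
      exact orderOf_eq_prime (by rw [pow_two]; exact h.sq u) h.u1
    have h3 := card_dvd_of_le h1
    rw [h2] at h3
    have h4 : Nat.card (cv M (T : Set H)) ≠ 2 := by
      intro h4
      have h5 : zpowers u = cv M (T : Set H) := eq_of_le_of_card_ge h1 (by rw [h4, h2])
      apply h.zY
      rw [← h5] at hzl
      exact (zpowers_le.2 h.uY) hzl
    have h5 : 0 < Nat.card (cv M (T : Set H)) := Nat.card_pos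
    omega
  have habs : AbsI T F (MulAction.stabilizer H z) (cv M (T : Set H)) :=
    { sq := h.sq
      faith := h.faith
      irr := h.irr
      two := h.two
      syl := h.syl
      stab := fun v hv v1 g => ⟨fun hg => hst z v h.tz hv v1 g hg, fun hg => hst v z hv h.tz h.z1 g hg⟩
      TY := fun t ht => h.tz t ht
      Yne := h.H_ne h.z1
      four := four
      BT := h.FT
      Bne := h.Fne
      el := h.el
      low := h.low
      exact := h.exact }
  -- `C_M(O²(H)) = 1`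
  have hodd : NO3b.EndX.oo H ⊔ T = ⊤ := by
    rw [← oddGen_top_eq_oo]
    exact oddGen_sup_top le_top (by rw [relIndex_top_right]; exact h.syl)
  have hC : FFBr.odd H M = ⊥ := by
    rw [eq_bot_iff]
    intro m hm
    by_contra hm1
    rw [mem_bot] at hm1
    rcases h.irr (FFBr.odd H M) (fun g w hw x hx => by
      have h1 : (g⁻¹ * x * g) • w = w := hw _ (by
        have h0 : orderOf (MulAut.conj g⁻¹ x) = orderOf x := MulEquiv.orderOf_eq _ _
        rw [MulAut.conj_apply, inv_inv] at h0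
        rwa [h0])
      rw [mul_smul, mul_smul, inv_smul_eq_iff] at h1
      exact h1) with h1 | h1
    · rw [h1, mem_bot] at hm
      exact hm1 hm
    · apply h.H_ne h.z1
      rw [eq_top_iff, ← hodd]
      refine sup_le ?_ fun t ht => h.tz t ht
      refine (closure_le _).2 fun x hx => ?_
      exact (h1 ▸ mem_top z : z ∈ FFBr.odd H M) x hx
  have hP2 := hR H M T F (MulAction.stabilizer H z) (cv M (T : Set H)) hK hO habs h.nmax u hul h.u1 z hzl
  rw [hC, sup_bot_eq] at hP2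
  -- `W = Y ∩ C_M(T₀)` is normalised by `N_H(T₀)`
  set T₀ : Subgroup H := T ⊓ oo H with hT₀
  set W : Subgroup M := Y ⊓ cv M (T₀ : Set H) with hW
  have huW : u ∈ W := ⟨h.uY, fun t ht => h.tu t ht.1⟩
  have hV : ∀ n ∈ normalizer (T₀ : Set H), ∀ w ∈ cv M (T₀ : Set H), n • w ∈ cv M (T₀ : Set H) := by
    intro n hn' w hw t ht
    have h1 : n⁻¹ * t * n ∈ T₀ := (mem_normalizer_iff''.1 hn' t).1 ht
    have h2 := hw _ h1
    rw [mul_smul, mul_smul, inv_smul_eq_iff] at h2
    exact h2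
  have hnW : normalizer (T₀ : Set H) ≤ nst H W := by
    refine le_of_forall hT0 ?_ ?_
    · intro g hg
      exact mem_nst fun w hw => ⟨h.NY g hg.2 w hw.1, hV g hg.1 w hw.2⟩
    · intro P hP hPN
      rcases h.par P hP with h1 | h1
      · -- `P` fixes `z`, so all of `C_M(T)`
        have hD : ∀ v ∈ cv M (T₀ : Set H), (∀ t ∈ T ⊓ (P ⊓ oo H), t • v = v) → ∀ x ∈ P ⊓ oo H, x • v = v := by
          have hTN : T ≤ normalizer ((P ⊓ oo H : Subgroup H) : Set H) := NO3b.ClosedPt.norm_of fun t ht x hx =>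
              ⟨P.mul_mem (P.mul_mem (hP.le ht) hx.1) (P.inv_mem (hP.le ht)), hTn.conj_mem x hx.2 t⟩
          refine trace_mod h.sq (fun x hx => hV x (hPN hx.1)) h.two (fun t ht => hV t (hT0 ht)) hTN ?_ ?_
          · exact NO3b.ClosedPt.odd_inf hTN le_top le_top (by rw [relIndex_top_right]; exact h.syl)
          · intro v hv tv x hx
            exact hst v z tv h.tz h.z1 x (h1 x hx.1)
        have hDP : P ≤ (P ⊓ oo H) ⊔ T := by
          have h2 : ¬ 2 ∣ T.relIndex P := fun h2 => h.syl (h2.trans (relIndex_dvd_index_of_le hP.le))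
          have h3 : oddGen P ≤ P ⊓ oo H := le_inf (oddGen_le P) (by
            rw [← oddGen_top_eq_oo]
            exact oddGen_mono le_top)
          exact (oddGen_sup_top hP.le h2).ge.trans (sup_le_sup_right h3 T)
        refine hDP.trans (sup_le ?_ ?_)
        · intro x hx
          refine mem_nst fun w hw => ?_
          rw [hD w hw.2 (fun t ht => hw.2 t ⟨ht.1, ht.2.2⟩) x hx]
          exact hw
        · intro t ht
          exact mem_nst fun w hw => ⟨h.NY t (le_normalizer ht) w hw.1, hV t (hT0 ht) w hw.2⟩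
      · intro g hg
        exact mem_nst fun w hw => ⟨h1 g hg w hw.1, hV g (hPN hg) w hw.2⟩
  -- the end
  have hzW : z ∈ W := by
    refine (closure_le W).2 ?_ hP2
    rintro m ⟨n, hn', rfl⟩
    exact nst_mem (hnW hn') huW
  exact h.zY hzW.1

end Sit

end Cfsg.Agent.Omega.KL.Star.ViaRed
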